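import Groth.Agent.UnivHomeo.Criteria
import Groth.Prelude.Def_HTop2
import Mathlib

/-!
# Absolute weak normalization of a ring
-/

open CategoryTheory CategoryTheory.Limits AlgebraicGeometry

universe u

set_option backward.isDefEq.respectTransparency false
set_option backward.defeqAttrib.useBackward true

namespace Groth.Agent.AWNLib

variable {A B C : Type u} [CommRing A] [CommRing B] [CommRing C]

/-- Two maps to a field out of the target of a universal homeomorphism agree if they agree on the source. -/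
theorem hom_ext {ψ : A →+* C} (h : FlatMor.IsUnivHomeo (Spec.map (CommRingCat.ofHom ψ)))
    {K : Type u} [Field K] (g g' : C →+* K) (hg : g.comp ψ = g'.comp ψ) : g = g' := by
  have hinj := ((tfae_universallyInjective (Spec.map (CommRingCat.ofHom ψ))).out 0 1 :
    UniversallyInjective (Spec.map (CommRingCat.ofHom ψ)) ↔
      ∀ (K : Type u) [Field K], Function.Injective fun g : Spec (.of K) ⟶ _ =>
        g ≫ Spec.map (CommRingCat.ofHom ψ)).mp (UnivHomeo.universallyInjective h) K
  have := @hinj (Spec.map (CommRingCat.ofHom g)) (Spec.map (CommRingCat.ofHom g')) (by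
    simp only [← Spec.map_comp, ← CommRingCat.ofHom_comp, hg])
  exact congrArg CommRingCat.Hom.hom (Spec.map_injective this)

theorem isIntegral {ψ : A →+* C} (h : FlatMor.IsUnivHomeo (Spec.map (CommRingCat.ofHom ψ))) :
    ψ.IsIntegral :=
  IsIntegralHom.SpecMap_iff.mp (UnivHomeo.isIntegralHom h)

theorem comap_surjective {ψ : A →+* C} (h : FlatMor.IsUnivHomeo (Spec.map (CommRingCat.ofHom ψ))) :
    Function.Surjective (PrimeSpectrum.comap ψ) :=
  (UnivHomeo.surjective h).1

theorem isUnivHomeo_of (ψ : A →+* C) (hint : ψ.IsIntegral)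
    (hext : ∀ (K : Type u) [Field K] (g g' : C →+* K), g.comp ψ = g'.comp ψ → g = g')
    (hsurj : Function.Surjective (PrimeSpectrum.comap ψ)) :
    FlatMor.IsUnivHomeo (Spec.map (CommRingCat.ofHom ψ)) := by
  have : IsIntegralHom (Spec.map (CommRingCat.ofHom ψ)) := IsIntegralHom.SpecMap_iff.mpr hint
  have : Surjective (Spec.map (CommRingCat.ofHom ψ)) := ⟨hsurj⟩
  have : UniversallyInjective (Spec.map (CommRingCat.ofHom ψ)) := by
    refine ((tfae_universallyInjective (Spec.map (CommRingCat.ofHom ψ))).out 1 0 :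
      (∀ (K : Type u) [Field K], Function.Injective fun g : Spec (.of K) ⟶ _ =>
        g ≫ Spec.map (CommRingCat.ofHom ψ)) ↔ UniversallyInjective _).mp fun K _ g g' hg => ?_
    obtain ⟨g, rfl⟩ := Spec.map_surjective g
    obtain ⟨g', rfl⟩ := Spec.map_surjective g'
    have hg' : CommRingCat.ofHom ψ ≫ g = CommRingCat.ofHom ψ ≫ g' :=
      Spec.map_injective (by simpa only [Spec.map_comp] using hg)
    exact congrArg Spec.map (CommRingCat.hom_ext (hext K g.hom g'.hom (congrArg CommRingCat.Hom.hom hg')))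
  exact UnivHomeo.of_isIntegralHom _

theorem isUnivHomeo_comp {ψ : A →+* B} {χ : B →+* C}
    (h : FlatMor.IsUnivHomeo (Spec.map (CommRingCat.ofHom ψ)))
    (h' : FlatMor.IsUnivHomeo (Spec.map (CommRingCat.ofHom χ))) :
    FlatMor.IsUnivHomeo (Spec.map (CommRingCat.ofHom (χ.comp ψ))) :=
  isUnivHomeo_of _ (RingHom.IsIntegral.trans ψ χ (isIntegral h) (isIntegral h'))
    (fun K _ g g' e => hom_ext h' g g' (hom_ext h (g.comp χ) (g'.comp χ) e))
    ((comap_surjective h).comp (comap_surjective h'))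

theorem isUnivHomeo_of_comp {ψ : A →+* B} {χ : B →+* C}
    (h : FlatMor.IsUnivHomeo (Spec.map (CommRingCat.ofHom ψ)))
    (h' : FlatMor.IsUnivHomeo (Spec.map (CommRingCat.ofHom (χ.comp ψ)))) :
    FlatMor.IsUnivHomeo (Spec.map (CommRingCat.ofHom χ)) :=
  isUnivHomeo_of _ (RingHom.IsIntegral.tower_top ψ χ (isIntegral h'))
    (fun K _ g g' e => hom_ext h' g g' (by rw [← RingHom.comp_assoc, ← RingHom.comp_assoc, e]))
    fun p => by
      obtain ⟨q, hq⟩ := comap_surjective h' (PrimeSpectrum.comap ψ p)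
      exact ⟨q, (UnivHomeo.isHomeomorph h).injective hq⟩

theorem isUnivHomeo_mk_nilradical :
    FlatMor.IsUnivHomeo (Spec.map (CommRingCat.ofHom (Ideal.Quotient.mk (nilradical A)))) :=
  isUnivHomeo_of _ (RingHom.isIntegral_of_surjective _ Ideal.Quotient.mk_surjective)
    (fun K _ g g' e => Ideal.Quotient.ringHom_ext e) fun p =>
      ⟨⟨p.asIdeal.map (Ideal.Quotient.mk (nilradical A)),
        Ideal.map_isPrime_of_surjective Ideal.Quotient.mk_surjective (by
          rw [Ideal.mk_ker]; exact nilradical_le_prime _)⟩,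
        PrimeSpectrum.ext (by
          show (p.asIdeal.map _).comap _ = p.asIdeal
          rw [Ideal.comap_map_of_surjective _ Ideal.Quotient.mk_surjective, ← RingHom.ker_eq_comap_bot,
            Ideal.mk_ker]
          exact sup_eq_left.2 (nilradical_le_prime _))⟩

section construction

variable (A)

/-- The algebraic closure of the residue field. -/
abbrev Kbar (p : PrimeSpectrum A) : Type u := AlgebraicClosure p.asIdeal.ResidueField

/-- The product of the algebraic closures of the residue fields. -/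
abbrev PBar : Type u := ∀ p : PrimeSpectrum A, Kbar A p

/-- Subalgebras of `PBar A` giving universal homeomorphisms. -/
def uhSubalgebras : Set (Subalgebra A (PBar A)) :=
  {D | FlatMor.IsUnivHomeo (Spec.map (CommRingCat.ofHom (algebraMap A D)))}

/-- The absolute weak normalization. -/
noncomputable def awn : Subalgebra A (PBar A) := sSup (uhSubalgebras A)

theorem surjective_of_subalgebra (D : Subalgebra A (PBar A)) :
    Function.Surjective (PrimeSpectrum.comap (algebraMap A D)) := fun p => by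
  let g : D →ₐ[A] Kbar A p := (Pi.evalAlgHom A (Kbar A) p).comp D.val
  refine ⟨⟨RingHom.ker g.toRingHom, RingHom.ker_isPrime _⟩, PrimeSpectrum.ext (Ideal.ext fun a => ?_)⟩
  show g (algebraMap A D a) = 0 ↔ a ∈ p.asIdeal
  rw [AlgHom.commutes, IsScalarTower.algebraMap_apply A p.asIdeal.ResidueField (Kbar A p),
    map_eq_zero, Ideal.algebraMap_residueField_eq_zero]

theorem isUnivHomeo_awn : FlatMor.IsUnivHomeo (Spec.map (CommRingCat.ofHom (algebraMap A (awn A)))) := by
  refine isUnivHomeo_of _ ?_ (fun K _ g g' e => ?_) (surjective_of_subalgebra A _)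
  · have hle : awn A ≤ integralClosure A (PBar A) := sSup_le fun D hD x hx =>
      (Algebra.IsIntegral.mk (R := A) (A := D) (isIntegral hD)).isIntegral ⟨x, hx⟩ |>.map D.val
    exact fun x => (isIntegral_algHom_iff (awn A).val Subtype.val_injective).1 (hle x.2)
  · letI : Algebra A K := (g.comp (algebraMap A (awn A))).toAlgebra
    let G : awn A →ₐ[A] K := { g with commutes' := fun a => rfl }
    let G' : awn A →ₐ[A] K := { g' with commutes' := fun a => (DFunLike.congr_fun e a).symm }
    suffices h : awn A ≤ (AlgHom.equalizer G G').map (awn A).val by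
      refine RingHom.ext fun x => ?_
      obtain ⟨y, hy, hyx⟩ := h x.2
      obtain rfl : y = x := Subtype.ext hyx
      exact hy
    refine sSup_le fun D hD x hx => ?_
    have hDle : D ≤ awn A := le_sSup hD
    have := hom_ext hD (g.comp (Subalgebra.inclusion hDle).toRingHom)
      (g'.comp (Subalgebra.inclusion hDle).toRingHom) (RingHom.ext fun a => DFunLike.congr_fun e a)
    exact ⟨⟨x, hDle hx⟩, (DFunLike.congr_fun this ⟨x, hx⟩ :), rfl⟩

variable {A}

theorem exists_algHom [Algebra A C]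
    (h : FlatMor.IsUnivHomeo (Spec.map (CommRingCat.ofHom (algebraMap A C)))) (p : PrimeSpectrum A) :
    Nonempty (C →ₐ[A] Kbar A p) := by
  haveI : Algebra.IsIntegral A C := ⟨isIntegral h⟩
  obtain ⟨q, hq⟩ := comap_surjective h p
  haveI : q.asIdeal.LiesOver p.asIdeal := ⟨(congrArg PrimeSpectrum.asIdeal hq).symm⟩
  haveI : Algebra.IsIntegral (A ⧸ p.asIdeal) (C ⧸ q.asIdeal) := .tower_top A
  haveI : FaithfulSMul (A ⧸ p.asIdeal) (Kbar A p) := by
    rw [faithfulSMul_iff_algebraMap_injective, IsScalarTower.algebraMap_eq _ p.asIdeal.ResidueField _]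
    exact (algebraMap p.asIdeal.ResidueField (Kbar A p)).injective.comp
      (Ideal.injective_algebraMap_quotient_residueField p.asIdeal)
  haveI : Module.IsTorsionFree (A ⧸ p.asIdeal) (Kbar A p) := inferInstance
  haveI : Module.IsTorsionFree (A ⧸ p.asIdeal) (C ⧸ q.asIdeal) :=
    Module.isTorsionFree_iff_algebraMap_injective.2 <| by
      refine (injective_iff_map_eq_zero _).2 fun x hx => ?_
      obtain ⟨x, rfl⟩ := Ideal.Quotient.mk_surjective x
      rw [Ideal.Quotient.algebraMap_mk_of_liesOver, Ideal.Quotient.eq_zero_iff_mem] at hx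
      rw [Ideal.Quotient.eq_zero_iff_mem, q.asIdeal.over_def p.asIdeal]
      exact hx
  let e : (C ⧸ q.asIdeal) →ₐ[A ⧸ p.asIdeal] Kbar A p := IsAlgClosed.lift
  exact ⟨(e.restrictScalars A).comp (Ideal.Quotient.mkₐ A q.asIdeal)⟩

theorem exists_isRingAWN (A : Type u) [CommRing A] :
    HTop.IsRingAWN (algebraMap A (awn A)) := by
  refine ⟨isUnivHomeo_awn A, fun C _ ψ hψ => ?_⟩
  letI := ψ.toAlgebra
  have hψ' : FlatMor.IsUnivHomeo (Spec.map (CommRingCat.ofHom (algebraMap A C))) := hψ
  choose f hf using fun p => (⟨(exists_algHom hψ' p).some, trivial⟩ : ∃ f : C →ₐ[A] Kbar A p, True)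
  let F : C →ₐ[A] PBar A := Pi.algHom A (Kbar A) f
  have hF : F.range ∈ uhSubalgebras A := by
    refine isUnivHomeo_of _ ?_ (fun K _ g g' e => ?_) (surjective_of_subalgebra A _)
    · intro x
      obtain ⟨c, hc⟩ := x.2
      have : IsIntegral A (F c) := IsIntegral.map F (isIntegral hψ c)
      refine (isIntegral_algHom_iff F.range.val Subtype.val_injective).1 ?_
      have hc' : F c = F.range.val x := hc
      rwa [hc'] at this
    · have h2 := hom_ext hψ (g.comp F.rangeRestrict.toRingHom) (g'.comp F.rangeRestrict.toRingHom)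
        (RingHom.ext fun a => by
          show g (F.rangeRestrict (algebraMap A C a)) = g' (F.rangeRestrict (algebraMap A C a))
          rw [AlgHom.commutes]; exact DFunLike.congr_fun e a)
      refine RingHom.ext fun x => ?_
      obtain ⟨c, rfl⟩ := F.rangeRestrict_surjective x
      exact DFunLike.congr_fun h2 c
  let χ : C →ₐ[A] awn A := F.codRestrict _ fun c => le_sSup (α := Subalgebra A (PBar A)) hF ⟨c, rfl⟩
  refine ⟨χ.toRingHom, χ.comp_algebraMap, fun χ' hχ' => RingHom.ext fun c => Subtype.ext (funext fun p => ?_)⟩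
  exact DFunLike.congr_fun (hom_ext hψ (((Pi.evalAlgHom A (Kbar A) p).comp (awn A).val).toRingHom.comp χ')
    (((Pi.evalAlgHom A (Kbar A) p).comp (awn A).val).toRingHom.comp χ.toRingHom) (by
      rw [RingHom.comp_assoc, RingHom.comp_assoc, hχ']
      exact congrArg _ χ.comp_algebraMap.symm)) c

end construction

section properties

variable {W : Type u} [CommRing W] {φ : A →+* W}

theorem comp_eq_id (hφ : HTop.IsRingAWN φ) (θ : W →+* W) (hθ : θ.comp φ = φ) : θ = RingHom.id W :=
  (hφ.2 W φ hφ.1).unique hθ (RingHom.id_comp φ)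

theorem exists_retraction (hφ : HTop.IsRingAWN φ) {C : Type u} [CommRing C] (ι : W →+* C)
    (hι : FlatMor.IsUnivHomeo (Spec.map (CommRingCat.ofHom ι))) :
    ∃ χ : C →+* W, χ.comp ι = RingHom.id W := by
  obtain ⟨χ, hχ, -⟩ := hφ.2 C (ι.comp φ) (isUnivHomeo_comp hφ.1 hι)
  exact ⟨χ, comp_eq_id hφ _ (by rw [RingHom.comp_assoc, hχ])⟩

theorem isReduced_of_isRingAWN (hφ : HTop.IsRingAWN φ) : IsReduced W := by
  obtain ⟨χ, hχ⟩ := exists_retraction hφ _ isUnivHomeo_mk_nilradical
  refine ⟨fun x hx => ?_⟩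
  have : Ideal.Quotient.mk (nilradical W) x = 0 :=
    Ideal.Quotient.eq_zero_iff_mem.2 (mem_nilradical.2 hx)
  have h2 := DFunLike.congr_fun hχ x
  rw [RingHom.comp_apply, this, map_zero] at h2
  exact h2.symm

theorem eq_of_sq_eq_of_cube_eq {R : Type u} [CommRing R] [IsReduced R] {a b : R} (h2 : a ^ 2 = b ^ 2)
    (h3 : a ^ 3 = b ^ 3) : a = b := by
  have : (a - b) ^ 3 = 0 := by
    linear_combination 4 * h3 - 3 * (a + b) * h2
  exact sub_eq_zero.1 (IsReduced.eq_zero _ ⟨3, this⟩)

theorem eq_of_pow_eq_of_mul_eq {R : Type u} [CommRing R] [IsReduced R] {p : ℕ} (hp : p.Prime) {a b : R}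
    (h1 : a ^ p = b ^ p) (h2 : (p : R) * a = p * b) : a = b := by
  refine sub_eq_zero.1 (IsReduced.eq_zero _ (mem_nilradical.1 ?_))
  rw [nilradical_eq_sInf, Ideal.mem_sInf]
  intro q hq
  haveI : q.IsPrime := hq
  let g : R →+* FractionRing (R ⧸ q) := (algebraMap (R ⧸ q) _).comp (Ideal.Quotient.mk q)
  suffices h : g a = g b by
    exact Ideal.Quotient.eq.1 (IsFractionRing.injective (R ⧸ q) (FractionRing (R ⧸ q)) h)
  by_cases hp0 : (p : FractionRing (R ⧸ q)) = 0
  · haveI : Fact p.Prime := ⟨hp⟩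
    haveI : CharP (FractionRing (R ⧸ q)) p := CharP.charP_iff_prime_eq_zero hp |>.mpr hp0
    exact frobenius_inj _ p (by simpa [frobenius_def] using congrArg g h1)
  · exact mul_left_cancel₀ hp0 (by simpa using congrArg g h2)

theorem isReduced_of_isSeminormalRing {R : Type u} [CommRing R] (h : HTop.IsSeminormalRing R) :
    IsReduced R := by
  have h2 : ∀ a : R, a ^ 2 = 0 → a = 0 := fun a ha =>
    (h 0 0 (by simp)).unique ⟨ha.symm, by rw [pow_succ, ha, zero_mul]⟩
      ⟨(zero_pow two_ne_zero).symm, (zero_pow three_ne_zero).symm⟩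
  suffices H : ∀ (n : ℕ) (a : R), a ^ n = 0 → a = 0 from ⟨fun a ⟨n, hn⟩ => H n a hn⟩
  intro n
  induction n using Nat.strong_induction_on with
  | _ n ih =>
    intro a hn
    rcases n with _ | _ | n
    · rw [pow_zero] at hn
      rw [← mul_one a, hn, mul_zero]
    · simpa using hn
    · refine ih (n + 1) (by omega) _ (h2 _ ?_)
      rw [← pow_mul]
      exact pow_eq_zero_of_le (by omega) hn

/-- An absolutely weakly normal ring has no nontrivial universal homeomorphism to a reduced ring. -/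
theorem bijective_of_isAWNRing {R : Type u} [CommRing R] (hR : HTop.IsAWNRing R) {χ : R →+* W}
    [IsReduced W] (hχ : FlatMor.IsUnivHomeo (Spec.map (CommRingCat.ofHom χ))) : Function.Bijective χ := by
  have := isReduced_of_isSeminormalRing hR.1
  have hinj : Function.Injective χ := by
    refine (injective_iff_map_eq_zero χ).2 fun r hr => ?_
    refine IsReduced.eq_zero _ (mem_nilradical.1 ?_)
    rw [nilradical_eq_sInf, Ideal.mem_sInf]
    intro q hq
    obtain ⟨q', hq'⟩ := comap_surjective hχ ⟨q, hq⟩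
    obtain rfl : q'.asIdeal.comap χ = q := congrArg PrimeSpectrum.asIdeal hq'
    show χ r ∈ q'.asIdeal
    rw [hr]; exact q'.asIdeal.zero_mem
  refine ⟨hinj, fun w => ?_⟩
  letI := χ.toAlgebra
  obtain ⟨l, hl, hw⟩ := UnivHomeo.chains_of_isUnivHomeo (A := R) (B := W) hχ (Or.inl trivial) {w}
  let S : Subalgebra R W := (Algebra.ofId R W).range
  have hS : w ∈ S := UnivHomeo.le_of_step S (fun x hx => by
    rcases hx with ⟨⟨r, hr⟩, s, hs⟩ | ⟨-, p, hp, ⟨r, hr⟩, s, hs⟩
    · replace hr : χ r = x ^ 2 := hr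
      replace hs : χ s = x ^ 3 := hs
      obtain ⟨a, ⟨rfl, rfl⟩, -⟩ := hR.1 r s (hinj (by simp only [map_pow, hr, hs]; ring))
      exact ⟨a, eq_of_sq_eq_of_cube_eq (a := χ a) (by simpa using hr) (by simpa using hs)⟩
    · replace hr : χ r = p * x := hr
      replace hs : χ s = x ^ p := hs
      obtain ⟨a, ⟨rfl, rfl⟩, -⟩ := hR.2 p hp s r (hinj (by simp [hr, hs, mul_pow]))
      exact ⟨a, eq_of_pow_eq_of_mul_eq hp (a := χ a) (by simpa using hs) (by simpa using hr)⟩) hl (hw (by simp))
  exact hS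

end properties

section roots

open Polynomial

variable {W : Type u} [CommRing W] {φ : A →+* W}

theorem exists_root (hφ : HTop.IsRingAWN φ) (f₁ f₂ : W[X]) (hf₁ : f₁.Monic)
    (huniq : ∀ (K : Type u) [Field K] (g : W →+* K) (a b : K), f₁.eval₂ g a = 0 → f₂.eval₂ g a = 0 →
      f₁.eval₂ g b = 0 → f₂.eval₂ g b = 0 → a = b)
    (hex : ∀ P : PrimeSpectrum W, ∃ a : Kbar W P,
      f₁.eval₂ (algebraMap W (Kbar W P)) a = 0 ∧ f₂.eval₂ (algebraMap W (Kbar W P)) a = 0) :
    ∃ a : W, f₁.eval a = 0 ∧ f₂.eval a = 0 := by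
  let I : Ideal W[X] := Ideal.span {f₁, f₂}
  let ι : W →+* W[X] ⧸ I := (Ideal.Quotient.mk I).comp C
  have hι : ∀ r, ι r = Ideal.Quotient.mk I (C r) := fun _ => rfl
  have hX : ∀ {K : Type u} [Field K] (g : W[X] ⧸ I →+* K) (f : W[X]), f ∈ I →
      f.eval₂ (g.comp ι) (g (Ideal.Quotient.mk I X)) = 0 := by
    intro K _ g f hf
    rw [← hom_eval₂, ← hom_eval₂, eval₂_C_X, Ideal.Quotient.eq_zero_iff_mem.2 hf, map_zero]
  have hm₁ : f₁ ∈ I := Ideal.subset_span (Set.mem_insert _ _)
  have hm₂ : f₂ ∈ I := Ideal.subset_span (Set.mem_insert_of_mem _ rfl)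
  have hUH : FlatMor.IsUnivHomeo (Spec.map (CommRingCat.ofHom ι)) := by
    refine isUnivHomeo_of _ ?_ (fun K _ g g' e => ?_) fun P => ?_
    · intro z
      obtain ⟨q, rfl⟩ := Ideal.Quotient.mk_surjective z
      have hXint : ι.IsIntegralElem (Ideal.Quotient.mk I X) := ⟨f₁, hf₁, by
        rw [← hom_eval₂, eval₂_C_X]; exact Ideal.Quotient.eq_zero_iff_mem.2 hm₁⟩
      induction q using Polynomial.induction_on' with
      | add a b ha hb => rw [map_add]; exact RingHom.IsIntegralElem.add _ ha hb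
      | monomial n r =>
        rw [← C_mul_X_pow_eq_monomial, map_mul, map_pow]
        refine RingHom.IsIntegralElem.mul _ (ι.isIntegralElem_map (x := r)) ?_
        induction n with
        | zero => rw [pow_zero, ← map_one ι]; exact ι.isIntegralElem_map
        | succ n ih => rw [pow_succ]; exact RingHom.IsIntegralElem.mul _ ih hXint
    · refine Ideal.Quotient.ringHom_ext (Polynomial.ringHom_ext (fun r => DFunLike.congr_fun e r) ?_)
      show g (Ideal.Quotient.mk I X) = g' (Ideal.Quotient.mk I X)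
      refine huniq K (g.comp ι) _ _ (hX g f₁ hm₁) (hX g f₂ hm₂) ?_ ?_
      · rw [e]; exact hX g' f₁ hm₁
      · rw [e]; exact hX g' f₂ hm₂
    · obtain ⟨a, ha₁, ha₂⟩ := hex P
      let g : W[X] ⧸ I →+* Kbar W P := Ideal.Quotient.lift I (eval₂RingHom (algebraMap W _) a)
        (fun f hf => by
          refine Submodule.span_induction ?_ (map_zero _) (fun x y _ _ hx hy => by rw [map_add, hx, hy, add_zero])
            (fun c x _ hx => by rw [smul_eq_mul, map_mul, hx, mul_zero]) hf
          rintro x (rfl | rfl)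
          exacts [ha₁, ha₂])
      refine ⟨⟨RingHom.ker g, RingHom.ker_isPrime _⟩, PrimeSpectrum.ext (Ideal.ext fun r => ?_)⟩
      show g (ι r) = 0 ↔ r ∈ P.asIdeal
      rw [hι]
      simp only [g, Ideal.Quotient.lift_mk, coe_eval₂RingHom, eval₂_C]
      rw [IsScalarTower.algebraMap_apply W P.asIdeal.ResidueField (Kbar W P), map_eq_zero,
        Ideal.algebraMap_residueField_eq_zero]
  obtain ⟨χ, hχ⟩ := exists_retraction hφ ι hUH
  have key : ∀ f ∈ I, f.eval (χ (Ideal.Quotient.mk I X)) = 0 := fun f hf => by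
    rw [← eval₂_id, ← hχ, ← hom_eval₂, ← hom_eval₂, eval₂_C_X, Ideal.Quotient.eq_zero_iff_mem.2 hf, map_zero]
  exact ⟨_, key f₁ hm₁, key f₂ hm₂⟩

theorem isAWNRing_of_isRingAWN (hφ : HTop.IsRingAWN φ) : HTop.IsAWNRing W := by
  have := isReduced_of_isRingAWN hφ
  refine ⟨fun x y h => ?_, fun p hp x y h => ?_⟩
  · obtain ⟨a, h2, h3⟩ := exists_root hφ (X ^ 2 - C x) (X ^ 3 - C y) (monic_X_pow_sub_C x two_ne_zero)
      (fun K _ g a b ha2 ha3 hb2 hb3 => by
        simp only [eval₂_sub, eval₂_pow, eval₂_X, eval₂_C, sub_eq_zero] at ha2 ha3 hb2 hb3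
        exact eq_of_sq_eq_of_cube_eq (ha2.trans hb2.symm) (ha3.trans hb3.symm))
      (fun P => by
        simp only [eval₂_sub, eval₂_pow, eval₂_X, eval₂_C, sub_eq_zero]
        have h' := congrArg (algebraMap W (Kbar W P)) h
        rw [map_pow, map_pow] at h'
        by_cases hx : algebraMap W (Kbar W P) x = 0
        · rw [hx, zero_pow three_ne_zero] at h'
          exact ⟨0, by rw [hx, zero_pow two_ne_zero],
            by rw [(pow_eq_zero_iff two_ne_zero).1 h'.symm, zero_pow three_ne_zero]⟩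
        · refine ⟨algebraMap W (Kbar W P) y / algebraMap W (Kbar W P) x, ?_, ?_⟩
          · rw [div_pow, div_eq_iff (pow_ne_zero 2 hx), ← h']; ring
          · rw [div_pow, div_eq_iff (pow_ne_zero 3 hx), h']; ring)
    simp only [eval_sub, eval_pow, eval_X, eval_C, sub_eq_zero] at h2 h3
    exact ⟨a, ⟨h2.symm, h3.symm⟩, fun b hb =>
      eq_of_sq_eq_of_cube_eq (hb.1.symm.trans h2.symm) (hb.2.symm.trans h3.symm)⟩
  · obtain ⟨a, h2, h3⟩ := exists_root hφ (X ^ p - C x) (C (p : W) * X - C y) (monic_X_pow_sub_C x hp.ne_zero)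
      (fun K _ g a b ha2 ha3 hb2 hb3 => by
        simp only [eval₂_sub, eval₂_mul, eval₂_pow, eval₂_X, eval₂_C, eval₂_natCast, sub_eq_zero, map_natCast] at ha2 ha3 hb2 hb3
        exact eq_of_pow_eq_of_mul_eq hp (ha2.trans hb2.symm) (ha3.trans hb3.symm))
      (fun P => by
        simp only [eval₂_sub, eval₂_mul, eval₂_pow, eval₂_X, eval₂_C, eval₂_natCast, sub_eq_zero, map_natCast]
        have h' := congrArg (algebraMap W (Kbar W P)) h
        rw [map_mul, map_pow, map_pow, map_natCast] at h'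
        by_cases hp0 : (p : Kbar W P) = 0
        · obtain ⟨a, ha⟩ := IsAlgClosed.exists_pow_nat_eq (algebraMap W (Kbar W P) x) hp.pos
          rw [hp0, zero_pow hp.ne_zero, zero_mul] at h'
          exact ⟨a, ha, by rw [hp0, zero_mul, (pow_eq_zero_iff hp.ne_zero).1 h'.symm]⟩
        · refine ⟨algebraMap W (Kbar W P) y / (p : Kbar W P), ?_, mul_div_cancel₀ _ hp0⟩
          rw [div_pow, div_eq_iff (pow_ne_zero p hp0), ← h', mul_comm])
    simp only [eval_sub, eval_mul, eval_pow, eval_X, eval_C, eval_natCast, sub_eq_zero] at h2 h3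
    exact ⟨a, ⟨h2.symm, h3.symm⟩, fun b hb =>
      eq_of_pow_eq_of_mul_eq hp (hb.1.symm.trans h2.symm) (hb.2.symm.trans h3.symm)⟩

theorem bijective_iff_isAWNRing (hφ : HTop.IsRingAWN φ) (ψ : A →+* B)
    (hψ : FlatMor.IsUnivHomeo (Spec.map (CommRingCat.ofHom ψ))) (χ : B →+* W) (hχ : χ.comp ψ = φ) :
    Function.Bijective χ ↔ HTop.IsAWNRing B := by
  refine ⟨fun hb => ?_, fun hB => ?_⟩
  · refine isAWNRing_of_isRingAWN (φ := ψ) ⟨hψ, fun C _ θ hθ => ?_⟩
    let e := RingEquiv.ofBijective χ hb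
    obtain ⟨ρ, hρ, huρ⟩ := hφ.2 C θ hθ
    refine ⟨e.symm.toRingHom.comp ρ, RingHom.ext fun a => hb.1 ?_, fun ρ' hρ' => RingHom.ext fun c => hb.1 ?_⟩
    · show e (e.symm (ρ (θ a))) = χ (ψ a)
      rw [RingEquiv.apply_symm_apply]
      exact (DFunLike.congr_fun hρ a).trans (DFunLike.congr_fun hχ a).symm
    · show χ (ρ' c) = e (e.symm (ρ c))
      rw [RingEquiv.apply_symm_apply]
      exact DFunLike.congr_fun (huρ (χ.comp ρ') (show (χ.comp ρ').comp θ = φ by
        rw [RingHom.comp_assoc, show ρ'.comp θ = ψ from hρ', hχ])) c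
  · have := isReduced_of_isRingAWN hφ
    exact bijective_of_isAWNRing hB (isUnivHomeo_of_comp hψ (by rw [hχ]; exact hφ.1))

theorem isRingAWN_of_isAWNRing (ψ : A →+* B) (hψ : FlatMor.IsUnivHomeo (Spec.map (CommRingCat.ofHom ψ)))
    (hB : HTop.IsAWNRing B) : HTop.IsRingAWN ψ := by
  have hW := exists_isRingAWN A
  obtain ⟨χ, hχ, -⟩ := hW.2 B ψ hψ
  let e := RingEquiv.ofBijective χ ((bijective_iff_isAWNRing hW ψ hψ χ hχ).2 hB)
  refine ⟨hψ, fun C _ θ hθ => ?_⟩
  obtain ⟨ρ, hρ, huρ⟩ := hW.2 C θ hθ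
  refine ⟨e.symm.toRingHom.comp ρ, RingHom.ext fun a => e.injective ?_,
    fun ρ' hρ' => RingHom.ext fun c => e.injective ?_⟩
  · show e (e.symm (ρ (θ a))) = e (ψ a)
    rw [RingEquiv.apply_symm_apply]
    exact (DFunLike.congr_fun hρ a).trans (DFunLike.congr_fun hχ a).symm
  · show χ (ρ' c) = e (e.symm (ρ c))
    rw [RingEquiv.apply_symm_apply]
    exact DFunLike.congr_fun (huρ (χ.comp ρ') (show (χ.comp ρ').comp θ = algebraMap A (awn A) by
      rw [RingHom.comp_assoc, show ρ'.comp θ = ψ from hρ', hχ])) c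

/-- The absolute weak normalization as an absolutely weakly normal ring. -/
theorem isAWNRing_awn (A : Type u) [CommRing A] : HTop.IsAWNRing (awn A) :=
  isAWNRing_of_isRingAWN (exists_isRingAWN A)

theorem injective_awn (A : Type u) [CommRing A] [IsReduced A] :
    Function.Injective (algebraMap A (awn A)) := by
  refine (injective_iff_map_eq_zero _).2 fun r hr => IsReduced.eq_zero _ (mem_nilradical.1 ?_)
  rw [nilradical_eq_sInf, Ideal.mem_sInf]
  intro q hq
  obtain ⟨q', hq'⟩ := comap_surjective (isUnivHomeo_awn A) ⟨q, hq⟩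
  obtain rfl : q'.asIdeal.comap _ = q := congrArg PrimeSpectrum.asIdeal hq'
  show algebraMap A (awn A) r ∈ q'.asIdeal
  rw [hr]; exact q'.asIdeal.zero_mem

end roots

end Groth.Agent.AWNLib
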