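import Groth.Agent.AWNLib.Basic
import Mathlib

/-!
# Absolute weak normality in characteristic `p`
-/

universe u

namespace Groth.Agent.AWNLib

variable {A : Type u} [CommRing A] {p : ℕ}

theorem isAWNRing_of_bijective_pow (hp : p.Prime) (h0 : (p : A) = 0)
    (h : Function.Bijective fun x : A => x ^ p) : HTop.IsAWNRing A := by
  have h1 : ∀ a b : A, a ^ p = b ^ p → a = b := fun a b e => h.1 e
  have hred : IsReduced A := by
    refine ⟨fun a ⟨n, hn⟩ => ?_⟩
    obtain ⟨m, hm⟩ : ∃ m, n ≤ p ^ m := ⟨n, (Nat.lt_pow_self hp.one_lt).le⟩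
    have key : ∀ (m : ℕ) (a : A), a ^ p ^ m = 0 → a = 0 := by
      intro m
      induction m with
      | zero => intro a ha; simpa using ha
      | succ m ih =>
        intro a ha
        refine ih a (h1 _ _ ?_)
        rw [← pow_mul, ← pow_succ, ha, zero_pow hp.ne_zero]
    exact key m a (pow_eq_zero_of_le hm hn)
  refine ⟨fun x y hxy => ?_, fun l hl x y hxy => ?_⟩
  · suffices ∃ a : A, x = a ^ 2 ∧ y = a ^ 3 by
      obtain ⟨a, ha⟩ := this
      exact ⟨a, ha, fun b hb => eq_of_sq_eq_of_cube_eq (hb.1.symm.trans ha.1) (hb.2.symm.trans ha.2)⟩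
    rcases hp.eq_two_or_odd' with rfl | ⟨m, rfl⟩
    · obtain ⟨a, ha : a ^ 2 = x⟩ := h.2 x
      exact ⟨a, ha.symm, h1 _ _ (by rw [← hxy, ← ha]; ring)⟩
    · obtain ⟨k, rfl⟩ : ∃ k, m = k + 1 := ⟨m - 1, by
        rcases Nat.eq_zero_or_pos m with rfl | hm
        · exact absurd hp (by norm_num)
        · omega⟩
      obtain ⟨a, ha : a ^ (2 * (k + 1) + 1) = x ^ k * y⟩ := h.2 (x ^ k * y)
      refine ⟨a, h1 _ _ ?_, h1 _ _ ?_⟩
      · rw [← pow_mul, mul_comm 2 (2 * (k + 1) + 1), pow_mul, ha, mul_pow, ← hxy]; ring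
      · rw [← pow_mul, mul_comm 3 (2 * (k + 1) + 1), pow_mul, ha, mul_pow, ← pow_mul, mul_comm k 3, pow_mul, hxy]
        ring
  · by_cases hlp : l = p
    · subst hlp
      rw [h0, zero_pow hl.ne_zero, zero_mul] at hxy
      obtain rfl : y = 0 := IsReduced.eq_zero _ ⟨l, hxy.symm⟩
      obtain ⟨a, ha : a ^ l = x⟩ := h.2 x
      exact ⟨a, ⟨ha.symm, by rw [h0, zero_mul]⟩, fun b hb => h1 _ _ (hb.1.symm.trans ha.symm)⟩
    · obtain ⟨u, v, huv⟩ := (Nat.isCoprime_iff_coprime.2 ((Nat.coprime_primes hl hp).2 hlp) : IsCoprime (l : ℤ) p)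
      have hlu : IsUnit (l : A) := IsUnit.of_mul_eq_one (u : A) (by
        have := congrArg (Int.cast : ℤ → A) huv
        push_cast at this
        rw [h0, mul_zero, add_zero, mul_comm] at this
        exact this)
      obtain ⟨w, hw⟩ := hlu
      refine ⟨↑w⁻¹ * y, ⟨?_, by rw [← hw, ← mul_assoc, Units.mul_inv, one_mul]⟩, fun b hb => ?_⟩
      · rw [mul_pow, ← hxy, ← hw, ← mul_assoc, ← mul_pow, Units.inv_mul, one_pow, one_mul]
      · rw [hb.2, ← hw, ← mul_assoc, Units.inv_mul, one_mul]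

theorem bijective_pow_of_isAWNRing (hp : p.Prime) (h0 : (p : A) = 0) (h : HTop.IsAWNRing A) :
    Function.Bijective fun x : A => x ^ p := by
  refine ⟨fun a b hab => ?_, fun x => ?_⟩
  · exact (h.2 p hp (a ^ p) 0 (by rw [h0, zero_pow hp.ne_zero, zero_mul])).unique
      ⟨rfl, by rw [h0, zero_mul]⟩ ⟨hab, by rw [h0, zero_mul]⟩
  · obtain ⟨a, ⟨ha, -⟩, -⟩ := h.2 p hp x 0 (by rw [h0, zero_pow hp.ne_zero, zero_mul])
    exact ⟨a, ha.symm⟩

theorem isRingAWN_perfectClosure (p : ℕ) [Fact p.Prime] (A : Type u) [CommRing A] [CharP A p] :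
    HTop.IsRingAWN (PerfectClosure.of A p) := by
  have hp : p.Prime := Fact.out
  refine isRingAWN_of_isAWNRing _ ?_ (isAWNRing_of_bijective_pow hp (CharP.cast_eq_zero _ p)
    PerfectRing.bijective_frobenius)
  have key : ∀ z : PerfectClosure A p, ∃ (n : ℕ) (a : A), z ^ p ^ n = PerfectClosure.of A p a := by
    intro z
    induction z using PerfectClosure.induction_on with
    | _ x => exact ⟨x.1, x.2, by
        rw [← iterate_frobenius, PerfectClosure.iterate_frobenius_mk A p x.1 x.2]⟩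
  refine isUnivHomeo_of _ (fun z => ?_) (fun K _ g g' e => RingHom.ext fun z => ?_) fun P => ?_
  · obtain ⟨n, a, ha⟩ := key z
    exact ⟨Polynomial.X ^ p ^ n - Polynomial.C a, Polynomial.monic_X_pow_sub_C a (pow_ne_zero _ hp.ne_zero),
      by simp [ha]⟩
  · obtain ⟨n, a, ha⟩ := key z
    haveI : CharP K p := (CharP.charP_iff_prime_eq_zero hp).2 (by
      rw [← map_natCast (g.comp (PerfectClosure.of A p)), CharP.cast_eq_zero, map_zero])
    refine iterateFrobenius_inj K p n ?_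
    simp only [iterateFrobenius_def]
    rw [← map_pow, ← map_pow, ha]
    exact DFunLike.congr_fun e a
  · haveI : CharP (Kbar A P) p := (CharP.charP_iff_prime_eq_zero hp).2 (by
      rw [← map_natCast (algebraMap A (Kbar A P)), CharP.cast_eq_zero, map_zero])
    let g := PerfectClosure.lift A p (Kbar A P) (algebraMap A (Kbar A P))
    refine ⟨⟨RingHom.ker g, RingHom.ker_isPrime _⟩, PrimeSpectrum.ext (Ideal.ext fun a => ?_)⟩
    show g (PerfectClosure.of A p a) = 0 ↔ a ∈ P.asIdeal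
    have : g (PerfectClosure.of A p a) = algebraMap A (Kbar A P) a :=
      DFunLike.congr_fun ((PerfectClosure.lift A p (Kbar A P)).symm_apply_apply (algebraMap A (Kbar A P))) a
    rw [this, IsScalarTower.algebraMap_apply A P.asIdeal.ResidueField (Kbar A P), map_eq_zero,
      Ideal.algebraMap_residueField_eq_zero]

end Groth.Agent.AWNLib
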