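import Groth.Agent.UnivHomeo.Basic
import Groth.Prelude.Def_HTop2
import Mathlib

/-!
# Factoring out of a universal homeomorphism through scheme-theoretic images
-/

open CategoryTheory CategoryTheory.Limits AlgebraicGeometry

universe u

namespace Groth.Agent.AWNLib

variable {T' Z T W : Scheme.{u}}

theorem isUnivHomeo_of_comp_surjective (f : T' ⟶ Z) (π : Z ⟶ T) [Surjective f]
    (h : FlatMor.IsUnivHomeo (f ≫ π)) : FlatMor.IsUnivHomeo π := by
  intro Z' T₁ i₁ i₂ f' hp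
  let h' : pullback i₁ f ⟶ Z' := pullback.fst i₁ f
  have hs : Surjective h' := inferInstanceAs (Surjective (pullback.fst i₁ f))
  have h1 : IsPullback h' (pullback.snd i₁ f) i₁ f := IsPullback.of_hasPullback i₁ f
  have h2 : IsPullback (h' ≫ f') (pullback.snd i₁ f) i₂ (f ≫ π) := h1.paste_horiz hp
  have hh := h _ _ _ h2
  have hc : (⇑(h' ≫ f') : _ → _) = ⇑f' ∘ ⇑h' := funext fun x => Scheme.Hom.comp_apply h' f' x
  replace hh : IsHomeomorph ⇑(h' ≫ f') := hh
  change IsHomeomorph ⇑f'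
  rw [isHomeomorph_iff_continuous_isClosedMap_bijective] at hh ⊢
  obtain ⟨-, hcl, hbij⟩ := hh
  rw [hc] at hcl hbij
  refine ⟨f'.continuous, IsClosedMap.of_comp_surjective hs.1 h'.continuous hcl, ?_, ?_⟩
  · intro a b e
    obtain ⟨a, rfl⟩ := hs.1 a
    obtain ⟨b, rfl⟩ := hs.1 b
    rw [hbij.1 e]
  · exact hbij.2.of_comp

theorem residueFieldsIso_of_comp_surjective (f : T' ⟶ Z) (π : Z ⟶ T) [Surjective f]
    (h : HTop.ResidueFieldsIso (f ≫ π)) : HTop.ResidueFieldsIso π := by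
  intro z
  obtain ⟨t, rfl⟩ := f.surjective z
  have h' := h t
  rw [Scheme.residueFieldMap_comp, ConcreteCategory.isIso_iff_bijective] at h'
  refine (ConcreteCategory.isIso_iff_bijective _).2 ⟨RingHom.injective _, fun y => ?_⟩
  obtain ⟨x, hx⟩ := h'.2 (f.residueFieldMap t y)
  exact ⟨x, RingHom.injective (f.residueFieldMap t).hom hx⟩

/-- If `ν = f ≫ p` is a universal homeomorphism and `p` is separated and locally of finite type, then
the scheme-theoretic image of `f` is finite and a universal homeomorphism over the base. -/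
theorem image_props (f : T' ⟶ W) (p : W ⟶ T) [IsSeparated p] [LocallyOfFiniteType p]
    (h : FlatMor.IsUnivHomeo (f ≫ p)) :
    Surjective f.toImage ∧ IsFinite (f.imageι ≫ p) ∧ FlatMor.IsUnivHomeo (f.imageι ≫ p) := by
  haveI := UnivHomeo.universallyClosed h
  haveI : UniversallyClosed f := .of_comp_of_isSeparated f p
  haveI : QuasiCompact f := inferInstance
  haveI hs : Surjective f.toImage :=
    surjective_of_isDominant_of_isClosed_range _ f.toImage.isClosedMap.isClosed_range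
  have hu : FlatMor.IsUnivHomeo (f.imageι ≫ p) := isUnivHomeo_of_comp_surjective f.toImage _ (by
    rw [Scheme.Hom.toImage_imageι_assoc]; exact h)
  haveI := UnivHomeo.isIntegralHom hu
  exact ⟨hs, (IsFinite.iff_isIntegralHom_and_locallyOfFiniteType _).2 ⟨inferInstance, inferInstance⟩, hu⟩

theorem image_residueFieldsIso (f : T' ⟶ W) (p : W ⟶ T) [IsSeparated p] [LocallyOfFiniteType p]
    (h : FlatMor.IsUnivHomeo (f ≫ p)) (hr : HTop.ResidueFieldsIso (f ≫ p)) :
    HTop.ResidueFieldsIso (f.imageι ≫ p) :=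
  haveI := (image_props f p h).1
  residueFieldsIso_of_comp_surjective f.toImage _ (by rw [Scheme.Hom.toImage_imageι_assoc]; exact hr)

variable {S X : Scheme.{u}}

/-- The two maps `g₁, g₂` agree on a closed subscheme of `T₁ ×_T T₂` through which `(h₁, h₂)` factors. -/
theorem exists_equalizer [X.IsSeparated] (fX : X ⟶ S) (fT : T ⟶ S) {T₁ T₂ : Scheme.{u}}
    (π₁ : T₁ ⟶ T) (π₂ : T₂ ⟶ T) [IsFinite π₁] [IsFinite π₂] (g₁ : T₁ ⟶ X) (g₂ : T₂ ⟶ X)
    (h₁ : T' ⟶ T₁) (h₂ : T' ⟶ T₂) (e₁ : g₁ ≫ fX = π₁ ≫ fT) (e₂ : g₂ ≫ fX = π₂ ≫ fT)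
    (ν : T' ⟶ T) (hν₁ : h₁ ≫ π₁ = ν) (hν₂ : h₂ ≫ π₂ = ν) (e : h₁ ≫ g₁ = h₂ ≫ g₂) :
    ∃ (E : Scheme.{u}) (p : E ⟶ T) (_ : IsSeparated p) (_ : LocallyOfFiniteType p) (k : T' ⟶ E)
      (b₁ : E ⟶ T₁) (b₂ : E ⟶ T₂), k ≫ p = ν ∧ b₁ ≫ π₁ = p ∧ b₂ ≫ π₂ = p ∧ b₁ ≫ g₁ = b₂ ≫ g₂ := by
  haveI : IsSeparated fX := IsSeparated.of_comp fX (terminal.from S)
  let q : pullback π₁ π₂ ⟶ pullback fX fX :=
    pullback.lift (pullback.fst π₁ π₂ ≫ g₁) (pullback.snd π₁ π₂ ≫ g₂) (by
      rw [Category.assoc, Category.assoc, e₁, e₂, pullback.condition_assoc])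
  let j : pullback q (pullback.diagonal fX) ⟶ pullback π₁ π₂ := pullback.fst q (pullback.diagonal fX)
  have hd : pullback.lift h₁ h₂ (hν₁.trans hν₂.symm) ≫ q = (h₁ ≫ g₁) ≫ pullback.diagonal fX := by
    ext <;> simp [q, e, pullback.lift_fst_assoc, pullback.lift_snd_assoc, pullback.lift_fst, pullback.lift_snd]
  refine ⟨_, j ≫ pullback.fst π₁ π₂ ≫ π₁, inferInstance, inferInstance,
    pullback.lift (pullback.lift h₁ h₂ (hν₁.trans hν₂.symm)) (h₁ ≫ g₁) hd,
    j ≫ pullback.fst π₁ π₂, j ≫ pullback.snd π₁ π₂, by simp [j, hν₁, pullback.lift_fst_assoc], by simp,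
    by simp [pullback.condition], ?_⟩
  have h1 : j ≫ q = pullback.snd q (pullback.diagonal fX) ≫ pullback.diagonal fX := pullback.condition
  have h2 := congrArg (· ≫ pullback.fst fX fX) h1
  have h3 := congrArg (· ≫ pullback.snd fX fX) h1
  simp [q, pullback.lift_fst, pullback.lift_snd] at h2 h3
  simp [h2, h3]

end Groth.Agent.AWNLib
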