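import Groth.Agent.AWNLib.Scheme3
import Mathlib

/-!
# Descending functions along proper surjections onto seminormal schemes
-/

open CategoryTheory CategoryTheory.Limits AlgebraicGeometry TensorProduct

universe u

set_option backward.isDefEq.respectTransparency false
set_option backward.defeqAttrib.useBackward true

namespace Groth.Agent.AWNLib

theorem exists_algebraMap_eq {k K : Type u} [Field k] [Field K] [Algebra k K] (a : K)
    (h : a ⊗ₜ[k] (1 : K) = (1 : K) ⊗ₜ[k] a) : ∃ c : k, algebraMap k K c = a := by
  obtain ⟨f, hf⟩ := LinearMap.exists_leftInverse_of_injective (Algebra.linearMap k K)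
    (LinearMap.ker_eq_bot.2 (algebraMap k K).injective)
  have h1 : f 1 = 1 := by
    have := DFunLike.congr_fun hf 1
    simpa using this
  refine ⟨f a, ?_⟩
  have := congrArg (fun t => TensorProduct.lid k K (LinearMap.rTensor K f t)) h
  simpa [h1, Algebra.smul_def] using this

theorem exists_preimage {k K : CommRingCat.{u}} (φ : k ⟶ K) (w : K) [hk : Fact (IsField k)]
    [hK : Fact (IsField K)] (h : ∀ (A : CommRingCat.{u}) (j₁ j₂ : K ⟶ A), φ ≫ j₁ = φ ≫ j₂ → j₁ w = j₂ w) :
    ∃ c : k, φ c = w := by
  letI := hk.out.toField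
  letI := hK.out.toField
  letI : Algebra k K := φ.hom.toAlgebra
  refine exists_algebraMap_eq w (h (CommRingCat.of (K ⊗[k] K))
    (CommRingCat.ofHom Algebra.TensorProduct.includeLeftRingHom)
    (CommRingCat.ofHom Algebra.TensorProduct.includeRight.toRingHom)
    (CommRingCat.hom_ext (RingHom.ext fun c => ?_)))
  show algebraMap k (K ⊗[k] K) c = Algebra.TensorProduct.includeRight (algebraMap k K c)
  rw [AlgHom.commutes]

/-- If `q : Y ⟶ Z` is surjective and its two projections from `Y ×_X Y` agree, then `Z ⟶ X` is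
universally injective with trivial residue extensions. -/
theorem props_of_equalizes {X Y Z : Scheme.{u}} (q : Y ⟶ Z) (p : Z ⟶ X) [Surjective q] [Surjective p]
    (h : pullback.fst (q ≫ p) (q ≫ p) ≫ q = pullback.snd (q ≫ p) (q ≫ p) ≫ q) :
    UniversallyInjective p ∧ HTop.ResidueFieldsIso p := by
  let m : pullback (q ≫ p) (q ≫ p) ⟶ pullback p p :=
    pullback.map _ _ _ _ q q (𝟙 X) (Category.comp_id _) (Category.comp_id _)
  haveI : Surjective m := MorphismProperty.pullbackMap (P := @Surjective) ‹_› ‹_› rfl rfl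
  have e : (pullback.fst (q ≫ p) (q ≫ p) ≫ q) ≫ pullback.diagonal p = m := by
    ext <;> simp [m, pullback.lift_fst, pullback.lift_snd, h]
  have hd : Surjective (pullback.diagonal p) := by
    haveI : Surjective ((pullback.fst (q ≫ p) (q ≫ p) ≫ q) ≫ pullback.diagonal p) := e ▸ inferInstance
    exact Surjective.of_comp (pullback.fst (q ≫ p) (q ≫ p) ≫ q) _
  haveI hui : UniversallyInjective p := (UniversallyInjective.iff_diagonal p).2 hd
  refine ⟨hui, fun z => ?_⟩
  obtain ⟨y, rfl⟩ := q.surjective z
  refine (ConcreteCategory.isIso_iff_bijective _).2 ⟨RingHom.injective _, fun w => ?_⟩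
  haveI : Fact (IsField (X.residueField (p (q y)))) := ⟨Field.toIsField _⟩
  haveI : Fact (IsField (Y.residueField y)) := ⟨Field.toIsField _⟩
  obtain ⟨c, hc'⟩ := exists_preimage (p.residueFieldMap (q y) ≫ q.residueFieldMap y) (q.residueFieldMap y w)
    fun A j₁ j₂ hj => by
      have hq : Y.fromSpecResidueField y ≫ q = Spec.map (q.residueFieldMap y) ≫ Z.fromSpecResidueField (q y) :=
        (Scheme.Hom.SpecMap_residueFieldMap_fromSpecResidueField _ _).symm
      have hp : Y.fromSpecResidueField y ≫ q ≫ p =
          Spec.map (p.residueFieldMap (q y) ≫ q.residueFieldMap y) ≫ X.fromSpecResidueField (p (q y)) := by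
        rw [← Category.assoc, hq, Category.assoc, ← Scheme.Hom.SpecMap_residueFieldMap_fromSpecResidueField,
          ← Category.assoc, ← Spec.map_comp]
      have hc : (Spec.map j₁ ≫ Y.fromSpecResidueField y) ≫ q ≫ p =
          (Spec.map j₂ ≫ Y.fromSpecResidueField y) ≫ q ≫ p := by
        simp only [Category.assoc, hp]
        rw [← Spec.map_comp_assoc, ← Spec.map_comp_assoc, hj]
      have h' := congrArg (pullback.lift _ _ hc ≫ ·) h
      simp only [pullback.lift_fst_assoc, pullback.lift_snd_assoc, Category.assoc, hq] at h'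
      rw [← Spec.map_comp_assoc, ← Spec.map_comp_assoc, cancel_mono] at h'
      exact congrArg (fun g : Z.residueField (q y) ⟶ A => g w) (Spec.map_injective h')
  exact ⟨c, RingHom.injective (q.residueFieldMap y).hom hc'⟩

theorem existsUnique_descend {X Y : Scheme.{u}} (hX : HTop.IsSeminormal X) (π : Y ⟶ X) [IsProper π]
    [Surjective π] [IsReduced Y] (s : Γ(Y, ⊤))
    (hs : (pullback.fst π π).appTop s = (pullback.snd π π).appTop s) :
    ∃! t : Γ(X, ⊤), π.appTop t = s := by
  haveI := isReduced_of_isSeminormal hX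
  let n := ULift.{u} (Fin 1)
  let g : Y ⟶ 𝔸(n; X) := AffineSpace.homOfVector π (fun _ => s)
  let o : 𝔸(n; X) ⟶ X := 𝔸(n; X) ↘ X
  have hgo : g ≫ o = π := AffineSpace.homOfVector_over _ _
  haveI : UniversallyClosed (g ≫ o) := by rw [hgo]; infer_instance
  haveI : UniversallyClosed g := .of_comp_of_isSeparated g o
  haveI : Surjective g.toImage :=
    surjective_of_isDominant_of_isClosed_range _ g.toImage.isClosedMap.isClosed_range
  let p : g.image ⟶ X := g.imageι ≫ o
  have hqp : g.toImage ≫ p = π := by rw [Scheme.Hom.toImage_imageι_assoc, hgo]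
  haveI : Surjective (g.toImage ≫ p) := by rw [hqp]; infer_instance
  haveI : Surjective p := Surjective.of_comp g.toImage p
  haveI : UniversallyClosed (g.toImage ≫ p) := by rw [hqp]; infer_instance
  haveI : UniversallyClosed p := UniversallyClosed.of_comp_surjective g.toImage p
  have heq : pullback.fst (g.toImage ≫ p) (g.toImage ≫ p) ≫ g.toImage =
      pullback.snd (g.toImage ≫ p) (g.toImage ≫ p) ≫ g.toImage := by
    rw [← cancel_mono g.imageι, Category.assoc, Category.assoc, Scheme.Hom.toImage_imageι]
    have hs' : (pullback.fst (g.toImage ≫ p) (g.toImage ≫ p)).appTop s =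
        (pullback.snd (g.toImage ≫ p) (g.toImage ≫ p)).appTop s := by
      have : ∀ (π' : Y ⟶ X) (_ : π = π'), (pullback.fst π' π').appTop s = (pullback.snd π' π').appTop s := by
        rintro _ rfl; exact hs
      exact this _ hqp.symm
    refine AffineSpace.hom_ext ?_ fun i => ?_
    · rw [Category.assoc, Category.assoc, hgo, ← hqp, pullback.condition]
    · rw [Scheme.Hom.comp_appTop, Scheme.Hom.comp_appTop, CommRingCat.comp_apply, CommRingCat.comp_apply,
        AffineSpace.homOfVector_appTop_coord, hs']
  obtain ⟨hui, hrf⟩ := props_of_equalizes g.toImage p heq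
  obtain ⟨σ, hσ, -⟩ := existsUnique_lift hX (𝟙 X) p (isUnivHomeo_of_props p) hrf
  have hσq : π ≫ σ = g.toImage := hom_ext_of_universallyInjective p _ _ (by
    rw [Category.assoc, hσ, Category.comp_id, hqp])
  refine ⟨(σ ≫ g.imageι).appTop (AffineSpace.coord X ⟨0⟩), ?_, fun t ht => ?_⟩
  · show π.appTop ((σ ≫ g.imageι).appTop (AffineSpace.coord X ⟨0⟩)) = s
    rw [← CommRingCat.comp_apply, ← Scheme.Hom.comp_appTop, ← Category.assoc, hσq, Scheme.Hom.toImage_imageι,
      AffineSpace.homOfVector_appTop_coord]
  · haveI : IsSchemeTheoreticallyDominant π := .of_isDominant π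
    refine π.app_injective ⊤ (ht.trans ?_)
    show s = π.appTop _
    rw [← CommRingCat.comp_apply, ← Scheme.Hom.comp_appTop, ← Category.assoc, hσq, Scheme.Hom.toImage_imageι,
      AffineSpace.homOfVector_appTop_coord]

end Groth.Agent.AWNLib
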