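import Groth.Agent.AWNLib.Basic
import Mathlib

/-!
# Locality of seminormality and absolute weak normality
-/

universe u

namespace Groth.Agent.AWNLib

section away

variable {A : Type u} [CommRing A] {f : A} {S : Type u} [CommRing S] [Algebra A S] [IsLocalization.Away f S]

theorem exists_mul_pow (z : S) : ∃ (a : A) (n : ℕ), z * algebraMap A S f ^ n = algebraMap A S a := by
  obtain ⟨⟨a, ⟨_, n, rfl⟩⟩, h⟩ := IsLocalization.surj (Submonoid.powers f) z
  exact ⟨a, n, by rw [← map_pow]; exact h⟩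

theorem exists_pow_mul_eq {a b : A} (h : algebraMap A S a = algebraMap A S b) :
    ∃ n : ℕ, ∀ m, n ≤ m → f ^ m * a = f ^ m * b := by
  obtain ⟨⟨_, n, rfl⟩, h⟩ := (IsLocalization.eq_iff_exists (Submonoid.powers f) S).1 h
  exact ⟨n, fun m hm => by
    rw [← Nat.sub_add_cancel hm, pow_add, mul_assoc, mul_assoc]; exact congrArg _ h⟩

variable (f) (S)

theorem isUnit_pow (n : ℕ) : IsUnit (algebraMap A S f ^ n) :=
  (IsLocalization.Away.algebraMap_isUnit f).pow n

include f in
theorem isReduced_away [IsReduced A] : IsReduced S :=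
  isReduced_localizationPreserves (Submonoid.powers f) S inferInstance

include f in
theorem isSeminormalRing_away (h : HTop.IsSeminormalRing A) : HTop.IsSeminormalRing S := by
  have := isReduced_of_isSeminormalRing h
  have := isReduced_away f S
  intro x y hxy
  obtain ⟨x₀, i, hx⟩ := exists_mul_pow (f := f) x
  obtain ⟨y₀, j, hy⟩ := exists_mul_pow (f := f) y
  -- common weights
  let k := i + j
  have hx' : x * algebraMap A S f ^ (2 * k) = algebraMap A S (f ^ (2 * k - i) * x₀) := by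
    rw [map_mul, map_pow, ← hx, mul_left_comm, ← pow_add, show 2 * k - i + i = 2 * k by omega]
  have hy' : y * algebraMap A S f ^ (3 * k) = algebraMap A S (f ^ (3 * k - j) * y₀) := by
    rw [map_mul, map_pow, ← hy, mul_left_comm, ← pow_add, show 3 * k - j + j = 3 * k by omega]
  generalize f ^ (2 * k - i) * x₀ = x₁ at hx'
  generalize f ^ (3 * k - j) * y₀ = y₁ at hy'
  obtain ⟨N, hN⟩ := exists_pow_mul_eq (f := f) (show algebraMap A S (x₁ ^ 3) = algebraMap A S (y₁ ^ 2) by
    rw [map_pow, map_pow, ← hx', ← hy', mul_pow, mul_pow, hxy, ← pow_mul, ← pow_mul]; congr 2; ring)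
  obtain ⟨a, ⟨h2, h3⟩, -⟩ := h (f ^ (2 * N) * x₁) (f ^ (3 * N) * y₁) (by
    rw [mul_pow, mul_pow, ← pow_mul, ← pow_mul, show 3 * N * 2 = 2 * N * 3 by ring]
    exact hN _ (by omega))
  obtain ⟨u, hu⟩ := isUnit_pow f S (k + N)
  refine ⟨algebraMap A S a * ↑u⁻¹, ⟨?_, ?_⟩, fun b hb => ?_⟩
  · rw [mul_pow, ← map_pow, ← h2, map_mul, ← hx', map_pow, mul_left_comm, ← pow_add, mul_assoc,
      show 2 * N + 2 * k = (k + N) * 2 by ring, pow_mul, ← hu, ← mul_pow, Units.mul_inv, one_pow, mul_one]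
  · rw [mul_pow, ← map_pow, ← h3, map_mul, ← hy', map_pow, mul_left_comm, ← pow_add, mul_assoc,
      show 3 * N + 3 * k = (k + N) * 3 by ring, pow_mul, ← hu, ← mul_pow, Units.mul_inv, one_pow, mul_one]
  · refine eq_of_sq_eq_of_cube_eq (hb.1.symm.trans ?_) (hb.2.symm.trans ?_)
    · rw [mul_pow, ← map_pow, ← h2, map_mul, ← hx', map_pow, mul_left_comm, ← pow_add, mul_assoc,
        show 2 * N + 2 * k = (k + N) * 2 by ring, pow_mul, ← hu, ← mul_pow, Units.mul_inv, one_pow, mul_one]
    · rw [mul_pow, ← map_pow, ← h3, map_mul, ← hy', map_pow, mul_left_comm, ← pow_add, mul_assoc,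
        show 3 * N + 3 * k = (k + N) * 3 by ring, pow_mul, ← hu, ← mul_pow, Units.mul_inv, one_pow, mul_one]

include f in
theorem isAWNRing_away (h : HTop.IsAWNRing A) : HTop.IsAWNRing S := by
  refine ⟨isSeminormalRing_away f S h.1, fun p hp x y hxy => ?_⟩
  have := isReduced_of_isSeminormalRing h.1
  have := isReduced_away f S
  obtain ⟨x₀, i, hx⟩ := exists_mul_pow (f := f) x
  obtain ⟨y₀, j, hy⟩ := exists_mul_pow (f := f) y
  let k := i + j
  have hik : i ≤ p * k := le_trans (Nat.le_add_right i j) (Nat.le_mul_of_pos_left _ hp.pos)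
  have hx' : x * algebraMap A S f ^ (p * k) = algebraMap A S (f ^ (p * k - i) * x₀) := by
    rw [map_mul, map_pow, ← hx, mul_left_comm, ← pow_add, Nat.sub_add_cancel hik]
  have hy' : y * algebraMap A S f ^ k = algebraMap A S (f ^ (k - j) * y₀) := by
    rw [map_mul, map_pow, ← hy, mul_left_comm, ← pow_add, show k - j + j = k by omega]
  generalize f ^ (p * k - i) * x₀ = x₁ at hx'
  generalize f ^ (k - j) * y₀ = y₁ at hy'
  obtain ⟨N, hN⟩ := exists_pow_mul_eq (f := f) (show algebraMap A S ((p : A) ^ p * x₁) = algebraMap A S (y₁ ^ p) by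
    rw [map_mul, map_pow, map_pow, map_natCast, ← hx', ← hy', mul_pow, ← mul_assoc, hxy, ← pow_mul,
      mul_comm p k])
  obtain ⟨a, ⟨h2, h3⟩, -⟩ := h.2 p hp (f ^ (p * N) * x₁) (f ^ N * y₁) (by
    rw [mul_pow, mul_left_comm, ← pow_mul, mul_comm N p]
    exact hN _ (Nat.le_mul_of_pos_left _ hp.pos))
  obtain ⟨u, hu⟩ := isUnit_pow f S (k + N)
  have e2 : x = (algebraMap A S a * ↑u⁻¹) ^ p := by
    rw [mul_pow, ← map_pow, ← h2, map_mul, ← hx', map_pow, mul_left_comm, ← pow_add, mul_assoc,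
      show p * N + p * k = (k + N) * p by ring, pow_mul, ← hu, ← mul_pow, Units.mul_inv, one_pow, mul_one]
  have e3 : y = (p : S) * (algebraMap A S a * ↑u⁻¹) := by
    rw [← mul_assoc, ← map_natCast (algebraMap A S), ← map_mul, ← h3, map_mul, ← hy', map_pow, mul_left_comm,
      ← pow_add, show N + k = k + N by ring, mul_assoc, ← hu, Units.mul_inv, mul_one]
  exact ⟨_, ⟨e2, e3⟩, fun b hb =>
    eq_of_pow_eq_of_mul_eq hp (hb.1.symm.trans e2) (hb.2.symm.trans e3)⟩

end away

variable {A : Type u} [CommRing A]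

theorem eq_top_of_pow_mem {J : Ideal A} {s : Finset A} (hs : Ideal.span (s : Set A) = ⊤)
    (h : ∀ f ∈ s, ∃ n : ℕ, f ^ n ∈ J) : J = ⊤ := by
  refine Ideal.radical_eq_top.1 (top_le_iff.1 (hs ▸ Ideal.span_le.2 fun f hf => ?_))
  exact h f hf

theorem isReduced_of_span (s : Finset A) (hs : Ideal.span (s : Set A) = ⊤)
    (h : ∀ f ∈ s, IsReduced (Localization.Away f)) : IsReduced A := by
  refine ⟨fun a ha => ?_⟩
  let J : Ideal A := LinearMap.ker (LinearMap.toSpanSingleton A A a)
  have : J = ⊤ := eq_top_of_pow_mem hs fun f hf => by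
    have := h f hf
    obtain ⟨n, hn⟩ := exists_pow_mul_eq (f := f) (S := Localization.Away f) (a := a) (b := 0)
      (by rw [map_zero]; exact (ha.map (algebraMap A (Localization.Away f))).eq_zero)
    exact ⟨n, by simpa [J] using hn n le_rfl⟩
  simpa [J] using (J.eq_top_iff_one).1 this

/-- The multipliers sending `a` into the image of `A`. -/
def multipliers (a : awn A) : Ideal A where
  carrier := {r | algebraMap A (awn A) r * a ∈ (algebraMap A (awn A)).range}
  add_mem' {x y} hx hy := by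
    show algebraMap A (awn A) (x + y) * a ∈ (algebraMap A (awn A)).range
    rw [map_add, add_mul]; exact add_mem hx hy
  zero_mem' := by
    show algebraMap A (awn A) 0 * a ∈ (algebraMap A (awn A)).range
    rw [map_zero, zero_mul]; exact zero_mem _
  smul_mem' r x hx := by
    show algebraMap A (awn A) (r * x) * a ∈ (algebraMap A (awn A)).range
    rw [map_mul, mul_assoc]; exact mul_mem ⟨r, rfl⟩ hx

theorem isSeminormalRing_of_span (s : Finset A) (hs : Ideal.span (s : Set A) = ⊤)
    (h : ∀ f ∈ s, HTop.IsSeminormalRing (Localization.Away f)) : HTop.IsSeminormalRing A := by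
  have := isReduced_of_span s hs fun f hf => isReduced_of_isSeminormalRing (h f hf)
  have hW := isAWNRing_awn A
  have := isReduced_of_isSeminormalRing hW.1
  intro x y hxy
  obtain ⟨a, ⟨h2, h3⟩, -⟩ := hW.1 (algebraMap A _ x) (algebraMap A _ y) (by rw [← map_pow, hxy, map_pow])
  have hJ : multipliers a = ⊤ := eq_top_of_pow_mem hs fun f hf => by
    let T := Localization.Away f
    obtain ⟨α, ⟨hα2, hα3⟩, -⟩ := h f hf (algebraMap A T x) (algebraMap A T y) (by rw [← map_pow, hxy, map_pow])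
    obtain ⟨b, k, hb⟩ := exists_mul_pow (f := f) α
    obtain ⟨n₂, hn₂⟩ := exists_pow_mul_eq (f := f) (S := T) (a := b ^ 2) (b := f ^ (2 * k) * x)
      (by rw [map_pow, ← hb, map_mul, hα2, map_pow]; ring)
    obtain ⟨n₃, hn₃⟩ := exists_pow_mul_eq (f := f) (S := T) (a := b ^ 3) (b := f ^ (3 * k) * y)
      (by rw [map_pow, ← hb, map_mul, hα3, map_pow]; ring)
    let M := n₂ + n₃
    refine ⟨k + M, f ^ M * b, eq_of_sq_eq_of_cube_eq ?_ ?_⟩
    · rw [mul_pow, ← h2, ← map_pow, ← map_pow, ← map_mul, mul_pow, ← pow_mul, hn₂ _ (by omega)]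
      congr 1; ring
    · rw [mul_pow, ← h3, ← map_pow, ← map_pow, ← map_mul, mul_pow, ← pow_mul, hn₃ _ (by omega)]
      congr 1; ring
  obtain ⟨c, hc⟩ := (hJ ▸ Submodule.mem_top : (1 : A) ∈ multipliers a)
  rw [map_one, one_mul] at hc
  subst hc
  exact ⟨c, ⟨injective_awn A (by rw [map_pow]; exact h2), injective_awn A (by rw [map_pow]; exact h3)⟩,
    fun b hb => eq_of_sq_eq_of_cube_eq (hb.1.symm.trans (injective_awn A (by rw [map_pow]; exact h2)))
      (hb.2.symm.trans (injective_awn A (by rw [map_pow]; exact h3)))⟩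

theorem isAWNRing_of_span (s : Finset A) (hs : Ideal.span (s : Set A) = ⊤)
    (h : ∀ f ∈ s, HTop.IsAWNRing (Localization.Away f)) : HTop.IsAWNRing A := by
  refine ⟨isSeminormalRing_of_span s hs fun f hf => (h f hf).1, fun p hp x y hxy => ?_⟩
  have := isReduced_of_span s hs fun f hf => isReduced_of_isSeminormalRing (h f hf).1
  have hW := isAWNRing_awn A
  have := isReduced_of_isSeminormalRing hW.1
  obtain ⟨a, ⟨h2, h3⟩, -⟩ := hW.2 p hp (algebraMap A _ x) (algebraMap A _ y)
    (by rw [← map_natCast (algebraMap A (awn A)), ← map_pow, ← map_pow, ← map_mul, hxy])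
  have hJ : multipliers a = ⊤ := eq_top_of_pow_mem hs fun f hf => by
    let T := Localization.Away f
    obtain ⟨α, ⟨hα2, hα3⟩, -⟩ := (h f hf).2 p hp (algebraMap A T x) (algebraMap A T y)
      (by rw [← map_natCast (algebraMap A T), ← map_pow, ← map_pow, ← map_mul, hxy])
    obtain ⟨b, k, hb⟩ := exists_mul_pow (f := f) α
    obtain ⟨n₂, hn₂⟩ := exists_pow_mul_eq (f := f) (S := T) (a := b ^ p) (b := f ^ (p * k) * x)
      (by rw [map_pow, ← hb, map_mul, hα2, map_pow]; ring)
    obtain ⟨n₃, hn₃⟩ := exists_pow_mul_eq (f := f) (S := T) (a := (p : A) * b) (b := f ^ k * y)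
      (by rw [map_mul, ← hb, map_mul, hα3, map_pow, map_natCast]; ring)
    let M := n₂ + n₃
    refine ⟨k + M, f ^ M * b, eq_of_pow_eq_of_mul_eq hp ?_ ?_⟩
    · rw [mul_pow, ← h2, ← map_pow, ← map_pow, ← map_mul, mul_pow, ← pow_mul,
        hn₂ _ (le_trans (by omega) (Nat.le_mul_of_pos_right M hp.pos))]
      congr 1; ring
    · rw [mul_left_comm, ← h3, ← map_natCast (algebraMap A (awn A)), ← map_mul, ← map_mul,
        mul_left_comm, hn₃ _ (by omega)]
      congr 1; ring
  obtain ⟨c, hc⟩ := (hJ ▸ Submodule.mem_top : (1 : A) ∈ multipliers a)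
  rw [map_one, one_mul] at hc
  subst hc
  have e2 : x = c ^ p := injective_awn A (by rw [map_pow]; exact h2)
  have e3 : y = (p : A) * c := injective_awn A (by rw [map_mul, map_natCast]; exact h3)
  exact ⟨c, ⟨e2, e3⟩, fun b hb => eq_of_pow_eq_of_mul_eq hp (hb.1.symm.trans e2) (hb.2.symm.trans e3)⟩

end Groth.Agent.AWNLib
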