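import Groth.Agent.AWNLib.Local
import Mathlib

/-!
# Absolute weak normalization of schemes
-/

open CategoryTheory CategoryTheory.Limits AlgebraicGeometry Opposite TensorProduct

universe u

set_option backward.isDefEq.respectTransparency false
set_option backward.defeqAttrib.useBackward true

namespace Groth.Agent.AWNLib

variable {A B C : Type u} [CommRing A] [CommRing B] [CommRing C]

instance instRespectsIso : (FlatMor.IsUnivHomeo : MorphismProperty Scheme.{u}).RespectsIso :=
  inferInstanceAs (MorphismProperty.universally _).RespectsIso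

instance instStableUnderBaseChange :
    (FlatMor.IsUnivHomeo : MorphismProperty Scheme.{u}).IsStableUnderBaseChange :=
  inferInstanceAs (MorphismProperty.universally _).IsStableUnderBaseChange

theorem isUnivHomeo_tensor [Algebra A B] [Algebra A C]
    (h : FlatMor.IsUnivHomeo (Spec.map (CommRingCat.ofHom (algebraMap A C)))) :
    FlatMor.IsUnivHomeo (Spec.map (CommRingCat.ofHom (algebraMap B (B ⊗[A] C)))) :=
  MorphismProperty.of_isPullback (P := (FlatMor.IsUnivHomeo : MorphismProperty Scheme.{u}))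
    (isPullback_SpecMap_of_isPushout (CommRingCat.ofHom (algebraMap A C))
      (CommRingCat.ofHom (algebraMap A B))
      (CommRingCat.ofHom (Algebra.TensorProduct.includeRight (R := A) (A := B) (B := C)).toRingHom)
      (CommRingCat.ofHom (algebraMap B (B ⊗[A] C)))
      (CommRingCat.isPushout_tensorProduct A B C).flip) h

theorem hom_awn_ext {ψ : A →+* C} (h : FlatMor.IsUnivHomeo (Spec.map (CommRingCat.ofHom ψ)))
    (θ θ' : C →+* awn B) (e : θ.comp ψ = θ'.comp ψ) : θ = θ' :=
  RingHom.ext fun c => Subtype.ext (funext fun q => DFunLike.congr_fun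
    (hom_ext h (((Pi.evalAlgHom B (Kbar B) q).comp (awn B).val).toRingHom.comp θ)
      (((Pi.evalAlgHom B (Kbar B) q).comp (awn B).val).toRingHom.comp θ') (by
        rw [RingHom.comp_assoc, RingHom.comp_assoc, e])) c)

theorem exists_map_awn (res : A →+* B) {ψ : A →+* C}
    (h : FlatMor.IsUnivHomeo (Spec.map (CommRingCat.ofHom ψ))) :
    ∃ θ : C →+* awn B, θ.comp ψ = (algebraMap B (awn B)).comp res := by
  letI := res.toAlgebra
  letI := ψ.toAlgebra
  obtain ⟨χ, hχ, -⟩ := (exists_isRingAWN B).2 (B ⊗[A] C) _ (isUnivHomeo_tensor (A := A) (B := B) (C := C) h)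
  refine ⟨χ.comp Algebra.TensorProduct.includeRight.toRingHom, RingHom.ext fun a => ?_⟩
  show χ (Algebra.TensorProduct.includeRight (algebraMap A C a)) = algebraMap B (awn B) (res a)
  rw [AlgHom.commutes, IsScalarTower.algebraMap_apply A B (B ⊗[A] C)]
  exact DFunLike.congr_fun hχ (res a)

/-- Functoriality of the absolute weak normalization. -/
noncomputable def awnMap (res : A →+* B) : awn A →+* awn B :=
  (exists_map_awn res (isUnivHomeo_awn A)).choose

theorem awnMap_comp (res : A →+* B) :
    (awnMap res).comp (algebraMap A (awn A)) = (algebraMap B (awn B)).comp res :=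
  (exists_map_awn res (isUnivHomeo_awn A)).choose_spec

theorem awnMap_id : awnMap (RingHom.id A) = RingHom.id (awn A) :=
  hom_awn_ext (isUnivHomeo_awn A) _ _ (awnMap_comp _)

theorem awnMap_awnMap (f : A →+* B) (g : B →+* C) :
    awnMap (g.comp f) = (awnMap g).comp (awnMap f) :=
  hom_awn_ext (isUnivHomeo_awn A) _ _ (by
    rw [awnMap_comp, RingHom.comp_assoc, awnMap_comp, ← RingHom.comp_assoc, ← RingHom.comp_assoc, awnMap_comp])

theorem isLocalization_awn [Algebra A B] (r : A) [IsLocalization.Away r B] :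
    letI := (awnMap (algebraMap A B)).toAlgebra
    IsLocalization.Away (algebraMap A (awn A) r) (awn B) := by
  letI := (awnMap (algebraMap A B)).toAlgebra
  let T := Localization.Away (algebraMap A (awn A) r)
  let β : B →+* T := IsLocalization.Away.lift r (g := (algebraMap (awn A) T).comp (algebraMap A (awn A)))
    (IsLocalization.Away.algebraMap_isUnit (S := T) (algebraMap A (awn A) r))
  have hβ : β.comp (algebraMap A B) = (algebraMap (awn A) T).comp (algebraMap A (awn A)) :=
    IsLocalization.Away.lift_comp r _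
  have hA := isUnivHomeo_awn A
  have hUH : FlatMor.IsUnivHomeo (Spec.map (CommRingCat.ofHom β)) := by
    refine isUnivHomeo_of _ (fun t => ?_) (fun K _ g g' e => ?_) fun q => ?_
    · obtain ⟨w, n, hw⟩ := exists_mul_pow (f := algebraMap A (awn A) r) t
      have hwint : β.IsIntegralElem (algebraMap (awn A) T w) := by
        obtain ⟨P, hP, hPw⟩ := isIntegral hA w
        refine ⟨P.map (algebraMap A B), hP.map _, ?_⟩
        rw [Polynomial.eval₂_map, hβ, ← Polynomial.hom_eval₂, hPw, map_zero]
      obtain ⟨u, hu⟩ := isUnit_pow r B n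
      have : t = algebraMap (awn A) T w * β ↑u⁻¹ := by
        rw [← hw, mul_assoc]
        conv_lhs => rw [← mul_one t, ← map_one β, ← Units.mul_inv u, map_mul, hu, map_pow]
        rw [show β (algebraMap A B r) = algebraMap (awn A) T (algebraMap A (awn A) r) from
          DFunLike.congr_fun hβ r]
      rw [this]
      exact RingHom.IsIntegralElem.mul _ hwint β.isIntegralElem_map
    · refine IsLocalization.ringHom_ext (Submonoid.powers (algebraMap A (awn A) r)) ?_
      refine hom_ext hA _ _ ?_
      rw [RingHom.comp_assoc, RingHom.comp_assoc, ← hβ, ← RingHom.comp_assoc, ← RingHom.comp_assoc, e]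
    · obtain ⟨P, hP⟩ := comap_surjective hA (PrimeSpectrum.comap (algebraMap A B) q)
      have hrq : r ∉ (PrimeSpectrum.comap (algebraMap A B) q).asIdeal := fun hr =>
        q.isPrime.ne_top (Ideal.eq_top_of_isUnit_mem _ hr (IsLocalization.Away.algebraMap_isUnit r))
      have hrP : P ∈ Set.range (PrimeSpectrum.comap (algebraMap (awn A) T)) := by
        rw [PrimeSpectrum.localization_away_comap_range T (algebraMap A (awn A) r), SetLike.mem_coe, PrimeSpectrum.mem_basicOpen]
        rw [← hP] at hrq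
        exact hrq
      obtain ⟨Q, rfl⟩ := hrP
      refine ⟨Q, PrimeSpectrum.localization_comap_injective B (Submonoid.powers r) ?_⟩
      rw [← hP, ← PrimeSpectrum.comap_comp_apply, hβ, PrimeSpectrum.comap_comp_apply]
  have hT : HTop.IsRingAWN β :=
    isRingAWN_of_isAWNRing β hUH (isAWNRing_away (algebraMap A (awn A) r) T (isAWNRing_awn A))
  obtain ⟨ρ, hρ, -⟩ := hT.2 (awn B) _ (isUnivHomeo_awn B)
  obtain ⟨χ, hχ, -⟩ := (exists_isRingAWN B).2 T β hUH
  have hχT : χ.comp (algebraMap (awn A) T) = awnMap (algebraMap A B) :=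
    hom_awn_ext hA _ _ (by rw [awnMap_comp, RingHom.comp_assoc, ← hβ, ← RingHom.comp_assoc, hχ])
  have h1 : ρ.comp χ = RingHom.id T := comp_eq_id hT _ (by rw [RingHom.comp_assoc, hχ, hρ])
  have h2 : χ.comp ρ = RingHom.id (awn B) := comp_eq_id (exists_isRingAWN B) _ (by rw [RingHom.comp_assoc, hρ, hχ])
  let e : T ≃ₐ[awn A] awn B := AlgEquiv.ofRingEquiv (f := RingEquiv.ofRingHom χ ρ h2 h1)
    fun w => DFunLike.congr_fun hχT w
  exact IsLocalization.isLocalization_of_algEquiv _ e

section scheme

variable (X : Scheme.{u})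

/-- The quasi-coherent algebra of absolute weak normalizations. -/
noncomputable def awnDiagram : X.AffineZariskiSiteᵒᵖ ⥤ CommRingCat.{u} where
  obj U := CommRingCat.of (awn Γ(X, U.unop.1))
  map {V W} i := CommRingCat.ofHom
    (awnMap (X.presheaf.map ((Scheme.AffineZariskiSite.toOpensFunctor X).op.map i)).hom)
  map_id U := by
    ext : 1
    simp only [CategoryTheory.Functor.map_id]
    exact awnMap_id
  map_comp i j := by
    ext : 1
    simp only [Functor.map_comp]
    exact awnMap_awnMap _ _

/-- The structure map. -/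
noncomputable def awnDiagramMap :
    (Scheme.AffineZariskiSite.toOpensFunctor X).op ⋙ X.presheaf ⟶ awnDiagram X where
  app U := CommRingCat.ofHom (algebraMap Γ(X, U.unop.1) (awn Γ(X, U.unop.1)))
  naturality {V W} i := CommRingCat.hom_ext (awnMap_comp _).symm

theorem coequifibered : (awnDiagramMap X).Coequifibered := by
  refine Scheme.AffineZariskiSite.coequifibered_iff_forall_isLocalizationAway.mpr fun U r => ?_
  letI := (X.presheaf.map (homOfLE (X.basicOpen_le r)).op).hom.toAlgebra
  haveI : IsLocalization.Away r Γ(X, X.basicOpen r) := U.2.isLocalization_basicOpen r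
  exact isLocalization_awn (A := Γ(X, U.1)) (B := Γ(X, X.basicOpen r)) r

/-- Gluing data for the absolute weak normalization. -/
noncomputable def glueData := Scheme.AffineZariskiSite.relativeGluingData (coequifibered X)

instance : ((glueData X).functor ⋙ Scheme.forget).IsLocallyDirected :=
  Scheme.Cover.RelativeGluingData.instIsLocallyDirectedI₀CompFunctorForgetOfIsThin ..

/-- The absolute weak normalization of a scheme. -/
noncomputable def awnScheme : Scheme.{u} := (glueData X).glued

/-- The canonical map. -/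
noncomputable def awnToBase : awnScheme X ⟶ X := (glueData X).toBase

/-- The chart over an affine open. -/
noncomputable def chart (U : X.affineOpens) : Spec (CommRingCat.of (awn Γ(X, U.1))) ⟶ awnScheme X :=
  (glueData X).cover.f U

theorem chart_toBase (U : X.affineOpens) : chart X U ≫ awnToBase X =
    Spec.map (CommRingCat.ofHom (algebraMap Γ(X, U.1) (awn Γ(X, U.1)))) ≫ U.2.fromSpec :=
  colimit.ι_desc _ _

theorem isUnivHomeo_awnToBase : FlatMor.IsUnivHomeo (awnToBase X) := by
  have key : ∀ (P : MorphismProperty Scheme.{u}) [IsZariskiLocalAtTarget P],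
      (∀ U : X.affineOpens, P (Spec.map (CommRingCat.ofHom (algebraMap Γ(X, U.1) (awn Γ(X, U.1)))))) →
      P (awnToBase X) := by
    intro P _ hP
    refine IsZariskiLocalAtTarget.of_openCover (Scheme.AffineZariskiSite.directedCover X) fun i => ?_
    have e := ((glueData X).isPullback_natTrans_ι_toBase i).flip
    show P (pullback.snd (awnToBase X) ((Scheme.AffineZariskiSite.directedCover X).f i))
    have : pullback.snd (awnToBase X) ((Scheme.AffineZariskiSite.directedCover X).f i) =
        e.isoPullback.inv ≫ (glueData X).natTrans.app i := e.isoPullback_inv_snd.symm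
    rw [this, P.cancel_left_of_respectsIso]
    exact (P.cancel_right_of_respectsIso _ _).mpr (hP i)
  have h : ∀ U : X.affineOpens, FlatMor.IsUnivHomeo
      (Spec.map (CommRingCat.ofHom (algebraMap Γ(X, U.1) (awn Γ(X, U.1))))) := fun U => isUnivHomeo_awn _
  exact UnivHomeo.iff_integral.2 ⟨key @IsIntegralHom fun U => UnivHomeo.isIntegralHom (h U),
    key @UniversallyInjective fun U => UnivHomeo.universallyInjective (h U),
    key @Surjective fun U => UnivHomeo.surjective (h U)⟩

variable {X}

theorem isUnivHomeo_app {Y : Scheme.{u}} {π : Y ⟶ X} (hπ : FlatMor.IsUnivHomeo π) (U : X.affineOpens) :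
    IsAffineOpen (π ⁻¹ᵁ U.1) ∧ FlatMor.IsUnivHomeo (Spec.map (π.app U.1)) := by
  haveI := UnivHomeo.isAffineHom hπ
  have hV : IsAffineOpen (π ⁻¹ᵁ U.1) := U.2.preimage π
  refine ⟨hV, ?_⟩
  have : IsAffine U.1.toScheme := U.2
  have : IsAffine (π ⁻¹ᵁ U.1).toScheme := hV
  have h1 : FlatMor.IsUnivHomeo (π ∣_ U.1) :=
    MorphismProperty.of_isPullback (P := (FlatMor.IsUnivHomeo : MorphismProperty Scheme.{u}))
      (isPullback_morphismRestrict π U.1).flip hπ
  rw [← Scheme.Hom.resLE_eq_morphismRestrict] at h1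
  have h2 := (MorphismProperty.arrow_mk_iso_iff (FlatMor.IsUnivHomeo : MorphismProperty Scheme.{u})
    (arrowIsoSpecΓOfIsAffine _)).1 h1
  have e := arrowResLEAppIso π U.1 (π ⁻¹ᵁ U.1) le_rfl
  have w : π.app U.1 = e.inv.left ≫ (π.resLE U.1 (π ⁻¹ᵁ U.1) le_rfl).appTop ≫ e.hom.right := by
    have hw : e.hom.left ≫ π.appLE U.1 (π ⁻¹ᵁ U.1) le_rfl =
        (π.resLE U.1 (π ⁻¹ᵁ U.1) le_rfl).appTop ≫ e.hom.right := Arrow.w e.hom
    rw [← hw, ← Category.assoc, ← Arrow.comp_left, e.inv_hom_id, Arrow.id_left, Category.id_comp,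
      Scheme.Hom.app_eq_appLE]
  rw [w, Spec.map_comp, Spec.map_comp, MorphismProperty.cancel_right_of_respectsIso
    (P := (FlatMor.IsUnivHomeo : MorphismProperty Scheme.{u})), MorphismProperty.cancel_left_of_respectsIso
    (P := (FlatMor.IsUnivHomeo : MorphismProperty Scheme.{u}))]
  exact h2

theorem exists_chart_hom {Y : Scheme.{u}} {π : Y ⟶ X} (hπ : FlatMor.IsUnivHomeo π) (U : X.affineOpens) :
    ∃ g : Spec (CommRingCat.of (awn Γ(X, U.1))) ⟶ Y,
      g ≫ π = Spec.map (CommRingCat.ofHom (algebraMap Γ(X, U.1) (awn Γ(X, U.1)))) ≫ U.2.fromSpec := by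
  obtain ⟨hV, hu⟩ := isUnivHomeo_app hπ U
  obtain ⟨χ, hχ, -⟩ := (exists_isRingAWN Γ(X, U.1)).2 Γ(Y, π ⁻¹ᵁ U.1) (π.app U.1).hom hu
  refine ⟨Spec.map (CommRingCat.ofHom χ) ≫ hV.fromSpec, ?_⟩
  rw [Category.assoc, ← U.2.SpecMap_appLE_fromSpec π hV le_rfl, ← Category.assoc, ← Spec.map_comp]
  congr 2
  rw [← Scheme.Hom.app_eq_appLE]
  exact CommRingCat.hom_ext hχ

theorem chart_hom_ext {Y : Scheme.{u}} {π : Y ⟶ X} (hπ : FlatMor.IsUnivHomeo π) (U : X.affineOpens)
    (g g' : Spec (CommRingCat.of (awn Γ(X, U.1))) ⟶ Y)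
    (hg : g ≫ π = Spec.map (CommRingCat.ofHom (algebraMap Γ(X, U.1) (awn Γ(X, U.1)))) ≫ U.2.fromSpec)
    (hg' : g' ≫ π = Spec.map (CommRingCat.ofHom (algebraMap Γ(X, U.1) (awn Γ(X, U.1)))) ≫ U.2.fromSpec) :
    g = g' := by
  obtain ⟨hV, hu⟩ := isUnivHomeo_app hπ U
  have key : ∀ g : Spec (CommRingCat.of (awn Γ(X, U.1))) ⟶ Y,
      g ≫ π = Spec.map (CommRingCat.ofHom (algebraMap Γ(X, U.1) (awn Γ(X, U.1)))) ≫ U.2.fromSpec →
      ∃ χ : Γ(Y, π ⁻¹ᵁ U.1) →+* awn Γ(X, U.1),
        χ.comp (π.app U.1).hom = algebraMap _ _ ∧ g = Spec.map (CommRingCat.ofHom χ) ≫ hV.fromSpec := by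
    intro g hg
    have hr : Set.range g ⊆ Set.range hV.fromSpec := by
      rintro _ ⟨z, rfl⟩
      rw [hV.range_fromSpec]
      show π (g z) ∈ U.1
      rw [← Scheme.Hom.comp_apply, hg, Scheme.Hom.comp_apply]
      exact U.2.range_fromSpec.le ⟨_, rfl⟩
    obtain ⟨m, hm⟩ : ∃ m, Spec.map m = IsOpenImmersion.lift hV.fromSpec g hr := Spec.map_surjective _
    refine ⟨m.hom, ?_, by rw [← IsOpenImmersion.lift_fac hV.fromSpec g hr, ← hm]; rfl⟩
    have hw : Spec.map (π.app U.1 ≫ m) =
        Spec.map (CommRingCat.ofHom (algebraMap Γ(X, U.1) (awn Γ(X, U.1)))) := by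
      rw [← cancel_mono U.2.fromSpec, Spec.map_comp, Category.assoc, Scheme.Hom.app_eq_appLE,
        U.2.SpecMap_appLE_fromSpec π hV le_rfl, hm, IsOpenImmersion.lift_fac_assoc, hg]
    exact congrArg CommRingCat.Hom.hom (Spec.map_injective hw)
  obtain ⟨χ, hχ, rfl⟩ := key g hg
  obtain ⟨χ', hχ', rfl⟩ := key g' hg'
  rw [((exists_isRingAWN Γ(X, U.1)).2 Γ(Y, π ⁻¹ᵁ U.1) (π.app U.1).hom hu).unique hχ hχ']

variable (X)

theorem isAWNormalization_awnToBase : HTop.IsAWNormalization (awnToBase X) := by
  refine ⟨isUnivHomeo_awnToBase X, fun Y π hπ => ?_⟩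
  let c : Cocone (glueData X).functor :=
    { pt := Y
      ι :=
        { app := fun U => (exists_chart_hom hπ U).choose
          naturality := fun U V i => by
            refine (chart_hom_ext hπ U _ _ ?_ (exists_chart_hom hπ U).choose_spec).trans (Category.comp_id _).symm
            erw [Category.assoc, (exists_chart_hom hπ V).choose_spec, ← chart_toBase X V, ← chart_toBase X U]
            exact (Category.assoc _ _ _).symm.trans (congrArg (· ≫ awnToBase X) (colimit.w (glueData X).functor i)) } }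
  refine ⟨colimit.desc _ c, colimit.hom_ext fun U => ?_, fun h hh => colimit.hom_ext fun U => ?_⟩
  · rw [colimit.ι_desc_assoc]
    exact (exists_chart_hom hπ U).choose_spec.trans (chart_toBase X U).symm
  · rw [colimit.ι_desc]
    refine chart_hom_ext hπ U _ _ ?_ (exists_chart_hom hπ U).choose_spec
    rw [Category.assoc]
    exact (congrArg (colimit.ι (glueData X).functor U ≫ ·) hh).trans (chart_toBase X U)

end scheme

end Groth.Agent.AWNLib
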