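import Groth.Agent.AWNLib.Scheme
import Groth.Agent.DVRCrit.Local
import Mathlib

/-!
# Absolutely weakly normal and seminormal schemes
-/

open CategoryTheory CategoryTheory.Limits AlgebraicGeometry Opposite TopologicalSpace

universe u

set_option backward.isDefEq.respectTransparency false
set_option backward.defeqAttrib.useBackward true

namespace Groth.Agent.AWNLib

theorem isSeminormalRing_of_equiv {R S : Type u} [CommRing R] [CommRing S] (e : R ≃+* S)
    (h : HTop.IsSeminormalRing R) : HTop.IsSeminormalRing S := by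
  intro x y hxy
  obtain ⟨a, ⟨h2, h3⟩, hu⟩ := h (e.symm x) (e.symm y) (by rw [← map_pow, hxy, map_pow])
  refine ⟨e a, ⟨?_, ?_⟩, fun b hb => ?_⟩
  · rw [← map_pow, ← h2, e.apply_symm_apply]
  · rw [← map_pow, ← h3, e.apply_symm_apply]
  · rw [← hu (e.symm b) ⟨by rw [← map_pow, ← hb.1], by rw [← map_pow, ← hb.2]⟩, e.apply_symm_apply]

theorem isAWNRing_of_equiv {R S : Type u} [CommRing R] [CommRing S] (e : R ≃+* S)
    (h : HTop.IsAWNRing R) : HTop.IsAWNRing S := by
  refine ⟨isSeminormalRing_of_equiv e h.1, fun p hp x y hxy => ?_⟩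
  obtain ⟨a, ⟨h2, h3⟩, hu⟩ := h.2 p hp (e.symm x) (e.symm y)
    (by rw [← map_natCast e.symm, ← map_pow, ← map_mul, hxy, map_pow])
  refine ⟨e a, ⟨?_, ?_⟩, fun b hb => ?_⟩
  · rw [← map_pow, ← h2, e.apply_symm_apply]
  · rw [← map_natCast e, ← map_mul, ← h3, e.apply_symm_apply]
  · rw [← hu (e.symm b) ⟨by rw [← map_pow, ← hb.1],
      by rw [← map_natCast e.symm, ← map_mul, ← hb.2]⟩, e.apply_symm_apply]

/-- A property of rings which is local on the spectrum is detected on any affine cover. -/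
theorem forall_affineOpens_iff (P : ∀ (A : Type u) [CommRing A], Prop)
    (hloc : ∀ (A B : Type u) [CommRing A] [CommRing B] [Algebra A B] (f : A) [IsLocalization.Away f B], P A → P B)
    (hspan : ∀ (A : Type u) [CommRing A] (s : Finset A), Ideal.span (s : Set A) = ⊤ →
      (∀ f ∈ s, P (Localization.Away f)) → P A)
    (X : Scheme.{u}) :
    (∀ x : X, ∃ U : X.affineOpens, x ∈ (U : X.Opens) ∧ P Γ(X, U)) ↔ ∀ U : X.affineOpens, P Γ(X, U) := by
  refine ⟨fun h V => ?_, fun h x => ?_⟩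
  · choose U hxU hU using h
    refine of_affine_open_cover (P := fun U : X.affineOpens => P Γ(X, U)) U
      (eq_top_iff.2 fun x _ => Opens.mem_iSup.2 ⟨x, hxU x⟩) V (fun W f hW => ?_) (fun W s hs h => ?_) hU
    · haveI := W.2.isLocalization_basicOpen f
      exact hloc Γ(X, W) Γ(X, X.basicOpen f) f hW
    · refine hspan _ s hs fun f hf => ?_
      haveI := W.2.isLocalization_basicOpen f
      let e := IsLocalization.algEquiv (Submonoid.powers f) Γ(X, X.basicOpen f) (Localization.Away f)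
      letI := e.toRingEquiv.toRingHom.toAlgebra
      haveI : IsLocalization.Away (1 : Γ(X, X.basicOpen f)) (Localization.Away f) :=
        IsLocalization.away_of_isUnit_of_bijective _ isUnit_one e.bijective
      exact hloc Γ(X, X.basicOpen f) (Localization.Away f) (1 : Γ(X, X.basicOpen f)) (h ⟨f, hf⟩)
  · obtain ⟨_, ⟨U, hU, rfl⟩, hx, -⟩ :=
      X.isBasis_affineOpens.exists_subset_of_mem_open (Set.mem_univ x) isOpen_univ
    exact ⟨⟨U, hU⟩, hx, h _⟩

theorem isSeminormal_iff (X : Scheme.{u}) :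
    HTop.IsSeminormal X ↔ ∀ U : X.affineOpens, HTop.IsSeminormalRing Γ(X, U) :=
  forall_affineOpens_iff (fun A _ => HTop.IsSeminormalRing A)
    (fun _ B _ _ _ f _ h => isSeminormalRing_away f B h) (fun _ _ s hs h => isSeminormalRing_of_span s hs h) X

theorem isAWN_iff (X : Scheme.{u}) :
    HTop.IsAWN X ↔ ∀ U : X.affineOpens, HTop.IsAWNRing Γ(X, U) :=
  forall_affineOpens_iff (fun A _ => HTop.IsAWNRing A)
    (fun _ B _ _ _ f _ h => isAWNRing_away f B h) (fun _ _ s hs h => isAWNRing_of_span s hs h) X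

theorem isReduced_of_isSeminormal {X : Scheme.{u}} (h : HTop.IsSeminormal X) : IsReduced X := by
  haveI : ∀ x : X, _root_.IsReduced (X.presheaf.stalk x) := fun x => by
    obtain ⟨U, hx, hU⟩ := h x
    have := isReduced_of_isSeminormalRing hU
    letI := TopCat.Presheaf.algebra_section_stalk X.presheaf ⟨x, hx⟩
    haveI := U.2.isLocalization_stalk ⟨x, hx⟩
    exact isReduced_localizationPreserves (U.2.primeIdealOf ⟨x, hx⟩).asIdeal.primeCompl _ inferInstance
  exact AlgebraicGeometry.isReduced_of_isReduced_stalk X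

theorem isSeminormal_of_isAWN {X : Scheme.{u}} (h : HTop.IsAWN X) : HTop.IsSeminormal X := fun x =>
  let ⟨U, hx, hU⟩ := h x; ⟨U, hx, hU.1⟩

theorem isAWN_of_iso {X Y : Scheme.{u}} (e : X ≅ Y) (h : HTop.IsAWN X) : HTop.IsAWN Y := fun y => by
  obtain ⟨U, hx, hU⟩ := h (e.inv y)
  refine ⟨⟨e.inv ⁻¹ᵁ U.1, U.2.preimage_of_isIso e.inv⟩, hx, ?_⟩
  exact isAWNRing_of_equiv (asIso (e.inv.app U.1)).commRingCatIsoToRingEquiv hU

theorem isAWN_awnScheme (X : Scheme.{u}) : HTop.IsAWN (awnScheme X) := fun x => by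
  obtain ⟨U, z, hz⟩ := (glueData X).cover.exists_eq x
  have : IsOpenImmersion (chart X U) := (glueData X).cover.map_prop U
  refine ⟨⟨(chart X U).opensRange, isAffineOpen_opensRange _⟩, ⟨z, hz⟩, ?_⟩
  refine isAWNRing_of_equiv ?_ (isAWNRing_awn Γ(X, U.1))
  exact (((chart X U).appIso ⊤).trans (Scheme.ΓSpecIso _)).commRingCatIsoToRingEquiv.symm.trans
    ((awnScheme X).presheaf.mapIso (eqToIso (by rw [Scheme.Hom.image_top_eq_opensRange])).op).commRingCatIsoToRingEquiv

theorem isIso_of_forall_app {X Y : Scheme.{u}} (h : Y ⟶ X) [IsAffineHom h]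
    (H : ∀ U : X.affineOpens, Function.Bijective (h.app U.1)) : IsIso h := by
  refine (IsZariskiLocalAtTarget.iff_of_iSup_eq_top (P := MorphismProperty.isomorphisms Scheme.{u}) _
    (iSup_affineOpens_eq_top X)).2 fun U => ?_
  have : IsAffine U.1.toScheme := U.2
  have : IsAffine (h ⁻¹ᵁ U.1).toScheme := U.2.preimage h
  have hi : IsIso (h.app U.1) := (ConcreteCategory.isIso_iff_bijective _).2 (H U)
  rw [← Scheme.Hom.resLE_eq_morphismRestrict]
  refine (MorphismProperty.arrow_mk_iso_iff (MorphismProperty.isomorphisms Scheme.{u})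
    (arrowIsoSpecΓOfIsAffine _)).2 ?_
  have e := arrowResLEAppIso h U.1 (h ⁻¹ᵁ U.1) le_rfl
  have w : (h.resLE U.1 (h ⁻¹ᵁ U.1) le_rfl).appTop = e.hom.left ≫ h.app U.1 ≫ e.inv.right := by
    have hw : e.inv.left ≫ (h.resLE U.1 (h ⁻¹ᵁ U.1) le_rfl).appTop =
        h.appLE U.1 (h ⁻¹ᵁ U.1) le_rfl ≫ e.inv.right := Arrow.w e.inv
    rw [Scheme.Hom.app_eq_appLE, ← hw, ← Category.assoc, ← Arrow.comp_left, e.hom_inv_id, Arrow.id_left,
      Category.id_comp]
  rw [MorphismProperty.isomorphisms.iff, w]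
  infer_instance

theorem isUnivHomeo_of_comp_hom {X Y Z : Scheme.{u}} (f : X ⟶ Y) (g : Y ⟶ Z) (hg : FlatMor.IsUnivHomeo g)
    (hfg : FlatMor.IsUnivHomeo (f ≫ g)) : FlatMor.IsUnivHomeo f := by
  haveI := UnivHomeo.isAffineHom hg
  haveI := UnivHomeo.isIntegralHom hfg
  haveI := UnivHomeo.universallyInjective hfg
  haveI : IsIntegralHom f := IsIntegralHom.of_comp f g
  haveI : UniversallyInjective f := ((tfae_universallyInjective f).out 1 0 :
      (∀ (K : Type u) [Field K], Function.Injective fun g : Spec (.of K) ⟶ X => g ≫ f) ↔ UniversallyInjective f).mp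
    fun K _ a b hab => ((tfae_universallyInjective (f ≫ g)).out 0 1 : UniversallyInjective (f ≫ g) ↔
      (∀ (K : Type u) [Field K], Function.Injective fun a : Spec (.of K) ⟶ X => a ≫ (f ≫ g))).mp inferInstance K
        (by simp only [← Category.assoc]; exact congrArg (· ≫ g) hab)
  haveI : Surjective f := ⟨fun y => by
    obtain ⟨x, hx⟩ := (UnivHomeo.surjective hfg).1 (g y)
    exact ⟨x, (UnivHomeo.isHomeomorph hg).injective (by rw [← hx, Scheme.Hom.comp_apply])⟩⟩
  exact UnivHomeo.of_isIntegralHom f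

theorem isIso_of_isAWN {X Y : Scheme.{u}} (h : Y ⟶ X) (hh : FlatMor.IsUnivHomeo h) (hX : HTop.IsAWN X)
    [IsReduced Y] : IsIso h := by
  haveI := UnivHomeo.isAffineHom hh
  refine isIso_of_forall_app h fun U => ?_
  obtain ⟨hV, hu⟩ := isUnivHomeo_app hh U
  exact bijective_of_isAWNRing ((isAWN_iff X).1 hX U) (χ := (h.app U.1).hom) hu

theorem isAWNormalization_unique {X X₁ X₂ : Scheme.{u}} {ν₁ : X₁ ⟶ X} {ν₂ : X₂ ⟶ X}
    (h₁ : HTop.IsAWNormalization ν₁) (h₂ : HTop.IsAWNormalization ν₂) : ∃ e : X₁ ≅ X₂, e.hom ≫ ν₂ = ν₁ := by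
  obtain ⟨a, ha, -⟩ := h₁.2 _ _ h₂.1
  obtain ⟨b, hb, -⟩ := h₂.2 _ _ h₁.1
  refine ⟨⟨a, b, (h₁.2 _ _ h₁.1).unique ?_ (Category.id_comp _), (h₂.2 _ _ h₂.1).unique ?_ (Category.id_comp _)⟩, ha⟩
  · rw [Category.assoc, hb, ha]
  · rw [Category.assoc, ha, hb]

theorem isAWN_of_isAWNormalization {X X' : Scheme.{u}} {ν : X' ⟶ X} (hν : HTop.IsAWNormalization ν) :
    HTop.IsAWN X' := by
  obtain ⟨e, -⟩ := isAWNormalization_unique (isAWNormalization_awnToBase X) hν
  exact isAWN_of_iso e (isAWN_awnScheme X)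

theorem isIso_iff_isAWN {X X' Y : Scheme.{u}} {ν : X' ⟶ X} (hν : HTop.IsAWNormalization ν) (π : Y ⟶ X)
    (hπ : FlatMor.IsUnivHomeo π) (h : X' ⟶ Y) (hh : h ≫ π = ν) : IsIso h ↔ HTop.IsAWN Y := by
  refine ⟨fun _ => isAWN_of_iso (asIso h) (isAWN_of_isAWNormalization hν), fun hY => ?_⟩
  haveI := isReduced_of_isSeminormal (isSeminormal_of_isAWN (isAWN_of_isAWNormalization hν))
  exact isIso_of_isAWN h (isUnivHomeo_of_comp_hom h π hπ (by rw [hh]; exact hν.1)) hY

theorem residueFieldsIso_of_isClosedImmersion {X Y : Scheme.{u}} (f : X ⟶ Y) [IsClosedImmersion f] :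
    HTop.ResidueFieldsIso f := fun x => by
  refine (ConcreteCategory.isIso_iff_bijective _).2 ⟨RingHom.injective _, fun z => ?_⟩
  obtain ⟨z, rfl⟩ := X.residue_surjective x z
  obtain ⟨w, rfl⟩ := f.stalkMap_surjective x z
  exact ⟨Y.residue (f x) w,
    congrArg (fun g : Y.presheaf.stalk (f x) ⟶ X.residueField x => g w) (Scheme.residue_residueFieldMap f x)⟩

theorem residueFieldsIso_comp {X Y Z : Scheme.{u}} {f : X ⟶ Y} {g : Y ⟶ Z} (hf : HTop.ResidueFieldsIso f)
    (hg : HTop.ResidueFieldsIso g) : HTop.ResidueFieldsIso (f ≫ g) := fun x => by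
  rw [Scheme.residueFieldMap_comp]
  have := hf x
  have := hg (f x)
  infer_instance

theorem isUnivHomeo_comp_hom {X Y Z : Scheme.{u}} {f : X ⟶ Y} {g : Y ⟶ Z} (hf : FlatMor.IsUnivHomeo f)
    (hg : FlatMor.IsUnivHomeo g) : FlatMor.IsUnivHomeo (f ≫ g) := by
  haveI := UnivHomeo.isIntegralHom hf
  haveI := UnivHomeo.isIntegralHom hg
  haveI := UnivHomeo.universallyInjective hf
  haveI := UnivHomeo.universallyInjective hg
  haveI := UnivHomeo.surjective hf
  haveI := UnivHomeo.surjective hg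
  haveI : UniversallyInjective (f ≫ g) := MorphismProperty.comp_mem (W := @UniversallyInjective) _ _ ‹_› ‹_›
  exact UnivHomeo.of_isIntegralHom _

theorem isReduced_of_isSeminormalization {X X' : Scheme.{u}} {ν : X' ⟶ X}
    (hν : HTop.IsSeminormalization ν) : IsReduced X' := by
  let I := Scheme.IdealSheafData.vanishingIdeal (⊤ : Closeds X')
  haveI := DVRCrit.isReduced_vanishingIdeal (⊤ : Closeds X')
  let ι := I.subschemeι
  haveI : Surjective ι := ⟨Set.range_eq_univ.1 (by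
    rw [Scheme.IdealSheafData.range_subschemeι, Scheme.IdealSheafData.coe_support_vanishingIdeal]; rfl)⟩
  haveI : UniversallyInjective ι := inferInstance
  have hι : FlatMor.IsUnivHomeo ι := UnivHomeo.of_isIntegralHom ι
  obtain ⟨h, hh, -⟩ := hν.2 _ (ι ≫ ν) (isUnivHomeo_comp_hom hι hν.1.1)
    (residueFieldsIso_comp (residueFieldsIso_of_isClosedImmersion ι) hν.1.2)
  have hid : h ≫ ι = 𝟙 X' := (hν.2 _ ν hν.1.1 hν.1.2).unique (by rw [Category.assoc, hh]) (Category.id_comp _)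
  haveI : IsSplitEpi ι := ⟨⟨⟨h, hid⟩⟩⟩
  haveI : IsIso ι := isIso_of_mono_of_isSplitEpi ι
  exact isReduced_of_isOpenImmersion (inv ι)

theorem isIso_of_isSeminormalization {X X' : Scheme.{u}} {ν : X' ⟶ X} (hν : HTop.IsSeminormalization ν)
    (hX : HTop.IsSeminormal X) : IsIso ν := by
  haveI := isReduced_of_isSeminormalization hν
  haveI := isReduced_of_isSeminormal hX
  haveI := UnivHomeo.isAffineHom hν.1.1
  refine isIso_of_forall_app ν fun U => ?_
  obtain ⟨hV, hu⟩ := isUnivHomeo_app hν.1.1 U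
  have hR := (isSeminormal_iff X).1 hX U
  have hinj : Function.Injective (ν.app U.1) := by
    refine (injective_iff_map_eq_zero _).2 fun r hr => IsReduced.eq_zero _ (mem_nilradical.1 ?_)
    rw [nilradical_eq_sInf, Ideal.mem_sInf]
    intro q hq
    obtain ⟨q', hq'⟩ := comap_surjective (ψ := (ν.app U.1).hom) hu ⟨q, hq⟩
    obtain rfl : q'.asIdeal.comap (ν.app U.1).hom = q := congrArg PrimeSpectrum.asIdeal hq'
    show (ν.app U.1).hom r ∈ q'.asIdeal
    rw [hr]; exact q'.asIdeal.zero_mem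
  refine ⟨hinj, fun w => ?_⟩
  letI := (ν.app U.1).hom.toAlgebra
  have hres : ∀ x, Function.Surjective ((Spec.map (CommRingCat.ofHom
      (algebraMap Γ(X, U.1) Γ(X', ν ⁻¹ᵁ U.1)))).residueFieldMap x) := by
    intro x
    change Function.Surjective ((Spec.map (ν.app U.1)).residueFieldMap x)
    have e : Spec.map (ν.app U.1) ≫ U.2.fromSpec = hV.fromSpec ≫ ν := by
      rw [Scheme.Hom.app_eq_appLE]; exact U.2.SpecMap_appLE_fromSpec ν hV le_rfl
    have h1 : HTop.ResidueFieldsIso (hV.fromSpec ≫ ν) :=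
      residueFieldsIso_comp (fun x => inferInstance) hν.1.2
    rw [← e] at h1
    have h2 := h1 x
    rw [Scheme.residueFieldMap_comp] at h2
    have : IsIso ((Spec.map (ν.app U.1)).residueFieldMap x) := IsIso.of_isIso_comp_left (U.2.fromSpec.residueFieldMap _) _
    exact ((ConcreteCategory.isIso_iff_bijective _).1 this).2
  obtain ⟨l, hl, hw⟩ := UnivHomeo.chains_of_isUnivHomeo (A := Γ(X, U.1)) (B := Γ(X', ν ⁻¹ᵁ U.1)) hu
    (weak := False) (Or.inr hres) {w}
  let S : Subalgebra Γ(X, U.1) Γ(X', ν ⁻¹ᵁ U.1) := (Algebra.ofId _ _).range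
  have hS : w ∈ S := UnivHomeo.le_of_step S (fun x hx => by
    rcases hx with ⟨⟨r, hr⟩, s, hs⟩ | ⟨hf, -⟩
    · replace hr : ν.app U.1 r = x ^ 2 := hr
      replace hs : ν.app U.1 s = x ^ 3 := hs
      obtain ⟨a, ⟨rfl, rfl⟩, -⟩ := hR r s (hinj (by simp only [map_pow, hr, hs]; ring))
      exact ⟨a, eq_of_sq_eq_of_cube_eq (a := ν.app U.1 a) (by simpa using hr) (by simpa using hs)⟩
    · exact hf.elim) hl (hw (by simp))
  exact hS

end Groth.Agent.AWNLib
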