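import Groth.Agent.AWNLib.Scheme2
import Groth.Agent.AWNLib.Colim
import Groth.Prelude.Def_Pi1
import Mathlib

/-!
# Seminormal schemes receive no nontrivial universal homeomorphisms with trivial residue extensions
-/

open CategoryTheory CategoryTheory.Limits AlgebraicGeometry

universe u

set_option backward.isDefEq.respectTransparency false
set_option backward.defeqAttrib.useBackward true

namespace Groth.Agent.AWNLib

theorem isSeminormalRing_of_stalks {A : Type u} [CommRing A]
    (hd : ∀ (p : Ideal A) [p.IsPrime], HTop.IsSeminormalRing (Localization.AtPrime p)) :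
    HTop.IsSeminormalRing A := by
  haveI : _root_.IsReduced A := isReduced_ofLocalizationMaximal A fun p hp =>
    isReduced_of_isSeminormalRing (hd p)
  have hW := isAWNRing_awn A
  haveI := isReduced_of_isSeminormalRing hW.1
  intro x y hxy
  obtain ⟨a, ⟨h2, h3⟩, -⟩ := hW.1 (algebraMap A _ x) (algebraMap A _ y) (by rw [← map_pow, hxy, map_pow])
  have hJ : multipliers a = ⊤ := by
    by_contra hne
    obtain ⟨p, hp, hle⟩ := Ideal.exists_le_maximal _ hne
    let T := Localization.AtPrime p
    obtain ⟨α, ⟨hα2, hα3⟩, -⟩ := hd p (algebraMap A T x) (algebraMap A T y) (by rw [← map_pow, hxy, map_pow])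
    obtain ⟨⟨b, s⟩, hb⟩ := IsLocalization.surj p.primeCompl α
    obtain ⟨t₂, ht₂⟩ := IsLocalization.exists_of_eq (M := p.primeCompl) (S := T) (x := b ^ 2) (y := s ^ 2 * x)
      (by rw [map_pow, map_mul, map_pow, ← hb, hα2]; ring)
    obtain ⟨t₃, ht₃⟩ := IsLocalization.exists_of_eq (M := p.primeCompl) (S := T) (x := b ^ 3) (y := s ^ 3 * y)
      (by rw [map_pow, map_mul, map_pow, ← hb, hα3]; ring)
    have hmem : (t₂ * t₃ * s : A) ∈ multipliers a := by
      refine ⟨t₂ * t₃ * b, eq_of_sq_eq_of_cube_eq ?_ ?_⟩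
      · rw [mul_pow, ← h2, ← map_pow, ← map_pow, ← map_mul]
        congr 1
        linear_combination (t₂ : A) * (t₃ : A) ^ 2 * ht₂
      · rw [mul_pow, ← h3, ← map_pow, ← map_pow, ← map_mul]
        congr 1
        linear_combination (t₂ : A) ^ 3 * (t₃ : A) ^ 2 * ht₃
    exact (mul_mem (mul_mem t₂.2 t₃.2) s.2 : _ ∈ p.primeCompl) (hle hmem)
  obtain ⟨c, hc⟩ := (hJ ▸ Submodule.mem_top : (1 : A) ∈ multipliers a)
  rw [map_one, one_mul] at hc
  subst hc
  exact ⟨c, ⟨injective_awn A (by rw [map_pow]; exact h2), injective_awn A (by rw [map_pow]; exact h3)⟩,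
    fun b hb => eq_of_sq_eq_of_cube_eq (hb.1.symm.trans (injective_awn A (by rw [map_pow]; exact h2)))
      (hb.2.symm.trans (injective_awn A (by rw [map_pow]; exact h3)))⟩

theorem isSeminormalRing_of_isIntegrallyClosed (A : Type u) [CommRing A] [IsDomain A]
    [IsIntegrallyClosed A] : HTop.IsSeminormalRing A := by
  intro x y hxy
  have hu : ∀ a b : A, a ^ 2 = b ^ 2 → a ^ 3 = b ^ 3 → a = b := fun a b => AWNLib.eq_of_sq_eq_of_cube_eq
  suffices ∃ a : A, x = a ^ 2 ∧ y = a ^ 3 by
    obtain ⟨a, ha⟩ := this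
    exact ⟨a, ha, fun b hb => hu b a (hb.1.symm.trans ha.1) (hb.2.symm.trans ha.2)⟩
  by_cases hx : x = 0
  · subst hx
    rw [zero_pow three_ne_zero] at hxy
    exact ⟨0, (zero_pow two_ne_zero).symm, by rw [(pow_eq_zero_iff two_ne_zero).1 hxy.symm, zero_pow three_ne_zero]⟩
  let K := FractionRing A
  have hi := IsFractionRing.injective A K
  have hx' : algebraMap A K x ≠ 0 := fun e => hx (hi (by rw [e, map_zero]))
  have hxy' : algebraMap A K x ^ 3 = algebraMap A K y ^ 2 := by rw [← map_pow, hxy, map_pow]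
  let q : K := algebraMap A K y / algebraMap A K x
  have hq : q ^ 2 = algebraMap A K x := by
    rw [div_pow, div_eq_iff (pow_ne_zero 2 hx'), ← hxy']; ring
  obtain ⟨a, ha⟩ := IsIntegrallyClosed.algebraMap_eq_of_integral (R := A)
    (IsIntegral.of_pow two_pos (hq ▸ isIntegral_algebraMap) : IsIntegral A q)
  refine ⟨a, hi ?_, hi ?_⟩
  · rw [map_pow, ha, hq]
  · rw [map_pow, ha, pow_succ, hq, mul_div_cancel₀ _ hx']

theorem isSeminormal_of_isNormalScheme {X : Scheme.{u}} (h : Pi1.IsNormalScheme X) :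
    HTop.IsSeminormal X := fun x => by
  obtain ⟨_, ⟨U, hU, rfl⟩, hx, -⟩ := X.isBasis_affineOpens.exists_subset_of_mem_open (Set.mem_univ x) isOpen_univ
  refine ⟨⟨U, hU⟩, hx, isSeminormalRing_of_stalks fun p hp => ?_⟩
  let P : PrimeSpectrum Γ(X, U) := ⟨p, hp⟩
  have hz : hU.fromSpec P ∈ U := by rw [← SetLike.mem_coe, ← hU.range_fromSpec]; exact ⟨P, rfl⟩
  letI := TopCat.Presheaf.algebra_section_stalk X.presheaf ⟨hU.fromSpec P, hz⟩
  haveI : IsLocalization.AtPrime (X.presheaf.stalk (hU.fromSpec P)) p := hU.isLocalization_stalk' P hz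
  obtain ⟨_, _⟩ := h (hU.fromSpec P)
  exact isSeminormalRing_of_equiv
    (IsLocalization.algEquiv p.primeCompl (X.presheaf.stalk (hU.fromSpec P)) (Localization.AtPrime p)).toRingEquiv
    (isSeminormalRing_of_isIntegrallyClosed _)

theorem isIso_of_residueFieldsIso {X X' : Scheme.{u}} (ν : X' ⟶ X) [IsReduced X']
    (huh : FlatMor.IsUnivHomeo ν) (hrf : HTop.ResidueFieldsIso ν)
    (hX : HTop.IsSeminormal X) : IsIso ν := by
  haveI := isReduced_of_isSeminormal hX
  haveI := UnivHomeo.isAffineHom huh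
  refine isIso_of_forall_app ν fun U => ?_
  obtain ⟨hV, hu⟩ := isUnivHomeo_app huh U
  have hR := (isSeminormal_iff X).1 hX U
  have hinj : Function.Injective (ν.app U.1) := by
    refine (injective_iff_map_eq_zero _).2 fun r hr => IsReduced.eq_zero _ (mem_nilradical.1 ?_)
    rw [nilradical_eq_sInf, Ideal.mem_sInf]
    intro q hq
    obtain ⟨q', hq'⟩ := comap_surjective (ψ := (ν.app U.1).hom) hu ⟨q, hq⟩
    obtain rfl : q'.asIdeal.comap (ν.app U.1).hom = q := congrArg PrimeSpectrum.asIdeal hq'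
    show (ν.app U.1).hom r ∈ q'.asIdeal
    rw [hr]; exact q'.asIdeal.zero_mem
  refine ⟨hinj, fun w => ?_⟩
  letI := (ν.app U.1).hom.toAlgebra
  have hres : ∀ x, Function.Surjective ((Spec.map (CommRingCat.ofHom
      (algebraMap Γ(X, U.1) Γ(X', ν ⁻¹ᵁ U.1)))).residueFieldMap x) := by
    intro x
    change Function.Surjective ((Spec.map (ν.app U.1)).residueFieldMap x)
    have e : Spec.map (ν.app U.1) ≫ U.2.fromSpec = hV.fromSpec ≫ ν := by
      rw [Scheme.Hom.app_eq_appLE]; exact U.2.SpecMap_appLE_fromSpec ν hV le_rfl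
    have h1 : HTop.ResidueFieldsIso (hV.fromSpec ≫ ν) :=
      residueFieldsIso_comp (fun x => inferInstance) hrf
    rw [← e] at h1
    have h2 := h1 x
    rw [Scheme.residueFieldMap_comp] at h2
    have : IsIso ((Spec.map (ν.app U.1)).residueFieldMap x) := IsIso.of_isIso_comp_left (U.2.fromSpec.residueFieldMap _) _
    exact ((ConcreteCategory.isIso_iff_bijective _).1 this).2
  obtain ⟨l, hl, hw⟩ := UnivHomeo.chains_of_isUnivHomeo (A := Γ(X, U.1)) (B := Γ(X', ν ⁻¹ᵁ U.1)) hu
    (weak := False) (Or.inr hres) {w}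
  let S : Subalgebra Γ(X, U.1) Γ(X', ν ⁻¹ᵁ U.1) := (Algebra.ofId _ _).range
  have hS : w ∈ S := UnivHomeo.le_of_step S (fun x hx => by
    rcases hx with ⟨⟨r, hr⟩, s, hs⟩ | ⟨hf, -⟩
    · replace hr : ν.app U.1 r = x ^ 2 := hr
      replace hs : ν.app U.1 s = x ^ 3 := hs
      obtain ⟨a, ⟨rfl, rfl⟩, -⟩ := hR r s (hinj (by simp only [map_pow, hr, hs]; ring))
      exact ⟨a, eq_of_sq_eq_of_cube_eq (a := ν.app U.1 a) (by simpa using hr) (by simpa using hs)⟩
    · exact hf.elim) hl (hw (by simp))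
  exact hS


/-- Points with values in fields lift along a surjection with trivial residue extensions. -/
theorem exists_lift_of_residueFieldsIso {X' X : Scheme.{u}} (ν : X' ⟶ X) [Surjective ν]
    (h : HTop.ResidueFieldsIso ν) (K : Type u) [Field K] (a : Spec (CommRingCat.of K) ⟶ X) :
    ∃ l : Spec (CommRingCat.of K) ⟶ X', l ≫ ν = a := by
  obtain ⟨⟨s, φ⟩, rfl⟩ := (X.SpecToEquivOfField K).symm.surjective a
  obtain ⟨x', rfl⟩ := ν.surjective s
  haveI := h x'
  refine ⟨Spec.map (inv (ν.residueFieldMap x') ≫ φ) ≫ X'.fromSpecResidueField x', ?_⟩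
  rw [Category.assoc, ← Scheme.Hom.SpecMap_residueFieldMap_fromSpecResidueField, ← Spec.map_comp_assoc,
    IsIso.hom_inv_id_assoc]
  rfl

theorem residueFieldsIso_of_exists_lift {X' X : Scheme.{u}} (f : X' ⟶ X) [UniversallyInjective f]
    (h : ∀ x : X, ∃ σ : Spec (X.residueField x) ⟶ X', σ ≫ f = X.fromSpecResidueField x) :
    HTop.ResidueFieldsIso f := by
  intro y
  obtain ⟨σ, hσ⟩ := h (f y)
  obtain ⟨⟨y', φ⟩, rfl⟩ := (X'.SpecToEquivOfField (X.residueField (f y))).symm.surjective σ
  have e : (Spec.map φ ≫ X'.fromSpecResidueField y') ≫ f = X.fromSpecResidueField (f y) := hσ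
  have hy : y' = y := by
    refine f.injective ?_
    have := congrArg (fun g : Spec (X.residueField (f y)) ⟶ X => g (IsLocalRing.closedPoint _)) e
    simpa [Scheme.Hom.comp_apply] using this
  subst hy
  rw [Category.assoc, ← Scheme.Hom.SpecMap_residueFieldMap_fromSpecResidueField, ← Spec.map_comp_assoc] at e
  have e' : f.residueFieldMap y' ≫ φ = 𝟙 _ := Spec.map_injective (by
    rw [← cancel_mono (X.fromSpecResidueField (f y')), e, Spec.map_id]; exact (Category.id_comp _).symm)
  refine (ConcreteCategory.isIso_iff_bijective _).2 ⟨RingHom.injective _, fun z => ⟨φ z, ?_⟩⟩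
  refine RingHom.injective φ.hom ?_
  exact congrArg (fun g : X.residueField (f y') ⟶ X.residueField (f y') => g (φ z)) e'

theorem residueFieldsIso_pullback_fst {X' X Y : Scheme.{u}} (π : Y ⟶ X) (ν : X' ⟶ X) [Surjective ν]
    [UniversallyInjective ν] (h : HTop.ResidueFieldsIso ν) :
    HTop.ResidueFieldsIso (pullback.fst π ν) :=
  haveI : UniversallyInjective (pullback.fst π ν) := MorphismProperty.pullback_fst _ _ ‹_›
  residueFieldsIso_of_exists_lift _ fun x => by
    obtain ⟨l, hl⟩ := exists_lift_of_residueFieldsIso ν h (Y.residueField x) (Y.fromSpecResidueField x ≫ π)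
    exact ⟨pullback.lift (Y.fromSpecResidueField x) l hl.symm, pullback.lift_fst _ _ _⟩

/-- Two lifts from a reduced scheme along a separated universally injective morphism agree. -/
theorem hom_ext_of_universallyInjective {T Y X : Scheme.{u}} [IsReduced T] (π : Y ⟶ X)
    [IsSeparated π] [UniversallyInjective π] (h h' : T ⟶ Y) (e : h ≫ π = h' ≫ π) : h = h' := by
  let c : T ⟶ pullback π π := pullback.lift h h' e
  let j := pullback.fst c (pullback.diagonal π)
  haveI : Surjective (pullback.diagonal π) := (UniversallyInjective.iff_diagonal π).1 ‹_›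
  haveI : Surjective j := inferInstanceAs (Surjective (pullback.fst c (pullback.diagonal π)))
  haveI : IsClosedImmersion j := inferInstanceAs (IsClosedImmersion (pullback.fst c (pullback.diagonal π)))
  haveI : IsIso j := isIso_of_isClosedImmersion_of_surjective j
  have h1 : j ≫ c = pullback.snd c (pullback.diagonal π) ≫ pullback.diagonal π := pullback.condition
  rw [← cancel_epi j]
  have h2 := congrArg (· ≫ pullback.fst π π) h1
  have h3 := congrArg (· ≫ pullback.snd π π) h1
  simp [c, pullback.lift_fst, pullback.lift_snd] at h2 h3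
  rw [h2, h3]

/-- A universal homeomorphism with trivial residue extensions has a unique section over every morphism
from a seminormal scheme. -/
theorem existsUnique_lift {T Y X : Scheme.{u}} (hT : HTop.IsSeminormal T) (g : T ⟶ X) (π : Y ⟶ X)
    (hπ : FlatMor.IsUnivHomeo π) (hr : HTop.ResidueFieldsIso π) : ∃! h : T ⟶ Y, h ≫ π = g := by
  haveI := isReduced_of_isSeminormal hT
  haveI := UnivHomeo.isIntegralHom hπ
  haveI := UnivHomeo.universallyInjective hπ
  haveI := UnivHomeo.surjective hπ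
  have hp : FlatMor.IsUnivHomeo (pullback.fst g π) :=
    MorphismProperty.pullback_fst (P := (FlatMor.IsUnivHomeo : MorphismProperty Scheme.{u})) _ _ hπ
  let I := Scheme.IdealSheafData.vanishingIdeal (⊤ : TopologicalSpace.Closeds (pullback g π : Scheme.{u}))
  haveI := DVRCrit.isReduced_vanishingIdeal (⊤ : TopologicalSpace.Closeds (pullback g π : Scheme.{u}))
  let ι := I.subschemeι
  haveI : Surjective ι := ⟨Set.range_eq_univ.1 (by
    rw [Scheme.IdealSheafData.range_subschemeι, Scheme.IdealSheafData.coe_support_vanishingIdeal]; rfl)⟩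
  haveI : UniversallyInjective ι := inferInstance
  have hι : FlatMor.IsUnivHomeo ι := UnivHomeo.of_isIntegralHom ι
  haveI : IsIso (ι ≫ pullback.fst g π) := isIso_of_residueFieldsIso _ (isUnivHomeo_comp_hom hι hp)
    (residueFieldsIso_comp (residueFieldsIso_of_isClosedImmersion ι) (residueFieldsIso_pullback_fst g π hr)) hT
  refine ⟨inv (ι ≫ pullback.fst g π) ≫ ι ≫ pullback.snd g π, ?_, fun h hh => ?_⟩
  · show (inv (ι ≫ pullback.fst g π) ≫ ι ≫ pullback.snd g π) ≫ π = g
    rw [Category.assoc, Category.assoc, ← pullback.condition, IsIso.inv_comp_eq, Category.assoc]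
  · refine hom_ext_of_universallyInjective π _ _ (hh.trans ?_)
    rw [Category.assoc, Category.assoc, ← pullback.condition, eq_comm, IsIso.inv_comp_eq, Category.assoc]

theorem isSeminormalization_of_isSeminormal {X' X : Scheme.{u}} (ν : X' ⟶ X)
    (hX' : HTop.IsSeminormal X') (hu : FlatMor.IsUnivHomeo ν) (hr : HTop.ResidueFieldsIso ν) :
    HTop.IsSeminormalization ν :=
  ⟨⟨hu, hr⟩, fun _ π hπ hπr => existsUnique_lift hX' ν π hπ hπr⟩

theorem isUnivHomeo_of_props {X Y : Scheme.{u}} (f : X ⟶ Y) [UniversallyClosed f] [UniversallyInjective f]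
    [Surjective f] : FlatMor.IsUnivHomeo f := by
  intro X' Y' i₁ i₂ f' hp
  have h1 : UniversallyClosed f' := MorphismProperty.of_isPullback (P := @UniversallyClosed) hp.flip ‹_›
  have h2 : UniversallyInjective f' :=
    MorphismProperty.of_isPullback (P := @UniversallyInjective) hp.flip ‹_›
  have h3 : Surjective f' := MorphismProperty.of_isPullback (P := @Surjective) hp.flip ‹_›
  exact isHomeomorph_iff_continuous_isClosedMap_bijective.mpr
    ⟨f'.continuous, f'.isClosedMap, f'.injective, h3.1⟩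

theorem isSeminormal_of_isOpenImmersion {X Y : Scheme.{u}} (j : X ⟶ Y) [IsOpenImmersion j]
    (h : HTop.IsSeminormal Y) : HTop.IsSeminormal X := fun x => by
  obtain ⟨_, ⟨U, hU, rfl⟩, hx, -⟩ := X.isBasis_affineOpens.exists_subset_of_mem_open (Set.mem_univ x) isOpen_univ
  refine ⟨⟨U, hU⟩, hx, ?_⟩
  exact isSeminormalRing_of_equiv (j.appIso U).commRingCatIsoToRingEquiv
    ((isSeminormal_iff Y).1 h ⟨j ''ᵁ U, hU.image_of_isOpenImmersion j⟩)

end Groth.Agent.AWNLib
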